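import Groth.Agent.H29GenusZero.Basic
import Groth.Agent.H29GenusZero.DegOnePencil
import Groth.Agent.H29RR.MaxSections
import Groth.Agent.H29RR.Generation
import Groth.Agent.H29RR.FiniteGen
import Groth.Agent.H29RR.DetTrivial
import Groth.Agent.H29RR.P1Split
import Groth.Agent.H29CurveDual.PointGen
import Groth.Agent.H11QMap.PnTensor
import Groth.Agent.H29Curve.Morphism
import Groth.Agent.S7640

/-!
# A pencil of degree two in positive genus gives a double cover of the projective line
-/

set_option autoImplicit false
set_option linter.style.haveILetI false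

universe u

open CategoryTheory CategoryTheory.Limits AlgebraicGeometry TopologicalSpace
open Groth.Agent.H29RR

namespace Groth.Agent.H29DoubleCover

attribute [local instance 10000] H10Coh.hasSheafifyAb H10Coh.hasWeakSheafifyAb H10Coh.hasExtAb H10Coh.enoughInjAb
attribute [local instance] Curv2.resAlgebra

variable {k : Type u} [Field k]

instance isIntegral_projLine (k : Type u) [Field k] : IsIntegral (CohB1.ProjSpace 1 k) := (H28Curve.projLine_facts k).1

theorem finrank_h0_twist_one :
    letI := H29RR.PnPic.overSpec 1 k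
    Module.finrank k (Coh.HH (CohB1.ProjSpace 1 k) (Twist.twistProjSpace 1 k 1) 0) = 2 := by
  letI := H29RR.PnPic.overSpec 1 k
  refine (H29RR.PnPic.finrank_h0_nat (n := 1) (k := k) 1).trans ?_
  rw [MvPolynomial.homogeneousSubmodule_one_eq_span_X, finrank_span_eq_card (MvPolynomial.linearIndependent_X _ _)]
  simp

/-- The hyperplane bundle of the line has degree one. -/
theorem deg_twist_one :
    letI := H29RR.PnPic.overSpec 1 k
    Curv2.deg k (CohB1.ProjSpace 1 k) (Twist.twistProjSpace 1 k 1) 1 = 1 := by
  letI := H29RR.PnPic.overSpec 1 k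
  let P := CohB1.ProjSpace 1 k
  haveI hP : IsProper (P ↘ Spec (CommRingCat.of k)) := H27Weil.isProper_toSpec 1 k
  obtain ⟨-, -, hPd⟩ := H28Curve.projLine_facts k
  haveI := H29RR.isNoetherian_of_proper (k := k) (X := P)
  obtain ⟨u0⟩ := (H10Coh.Stab.isTwistFamily_projSpace 1 k).zero
  have hh : ∀ n, Module.finrank k (Coh.HH P (Coh.structureModule P) n) =
      Module.finrank k (Coh.HH P (Twist.twistProjSpace 1 k 0) n) := fun n => (H29RR.hhIso (k := k) u0.symm n).finrank_eq
  have hv : ∀ d : ℤ, 0 ≤ d → Module.finrank k (Coh.HH P (Twist.twistProjSpace 1 k d) 1) = 0 := fun d hd => by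
    haveI : Subsingleton (Coh.HH P (Twist.twistProjSpace 1 k d) 1) :=
      H10Coh.Pn.subsingleton_HH_Od 1 (by omega) (by omega)
    exact Module.finrank_zero_of_subsingleton
  rw [deg_def, euler_eq_sub (k := k) hPd.le, euler_eq_sub (k := k) hPd.le, finrank_h0_twist_one, hh, hh,
    hv 1 (by omega), hv 0 le_rfl, show Module.finrank k (Coh.HH P (Twist.twistProjSpace 1 k 0) 0) = 1 from
      H29RR.PnPic.finrank_h0_zero]
  norm_num

/-- A morphism between schemes of dimension at most one, the source irreducible, with two values is dominant. -/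
theorem apply_genericPoint {P X : Scheme.{u}} [IrreducibleSpace P] [IsIntegral X] (hX : topologicalKrullDim X ≤ 1)
    (f : P ⟶ X) (hnc : ∃ a b : P, f a ≠ f b) : f (genericPoint P) = genericPoint X := by
  rcases H29Curve.isClosed_singleton_or_eq_genericPoint hX (f (genericPoint P)) with hcl | h
  swap
  · exact h
  obtain ⟨a, b, hab⟩ := hnc
  have h : ∀ z : P, f z = f (genericPoint P) := fun z =>
    specializes_iff_forall_closed.1 (((genericPoint_spec P).specializes trivial).map f.continuous)
      ({f (genericPoint P)} : Set X) hcl rfl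
  exact absurd ((h a).trans (h b).symm) hab

/-- A proper dominant morphism from an integral curve to an integral curve is finite. -/
theorem isFinite_of_dominant {P X : Scheme.{u}} [IsIntegral P] [IsNoetherian P] [IsIntegral X]
    (hP : topologicalKrullDim P ≤ 1) (f : P ⟶ X) [IsProper f] (hnc : ∃ a b : P, f a ≠ f b) : IsFinite f := by
  have hbad : ∀ z, IsClosed ({z} : Set X) → genericPoint P ∉ f ⁻¹' {z} := fun z hz hmem => by
    obtain ⟨a, b, hab⟩ := hnc
    have h : ∀ w : P, f w = z := fun w =>
      specializes_iff_forall_closed.1 (((genericPoint_spec P).specializes trivial).map f.continuous) _ hz hmem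
    exact hab ((h a).trans (h b).symm)
  haveI : LocallyQuasiFinite f := by
    refine locallyQuasiFinite_iff_finite_preimage_singleton.2 fun z => ?_
    by_cases hz : IsClosed ({z} : Set X)
    · exact (H25Par.finite_of_isClosed_of_notMem hP (hz.preimage f.continuous) (hbad z hz)).1
    · refine (Set.finite_singleton (genericPoint P)).subset fun y hy => by_contra fun hne' => hz ?_
      obtain ⟨-, hcl⟩ := H25Par.finite_of_isClosed_of_notMem hP (S := closure ({y} : Set P)) isClosed_closure
        (fun h => hne' ((specializes_iff_mem_closure.2 h).antisymm ((genericPoint_spec P).specializes trivial)).eq)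
      rw [← show f y = z from hy, ← Set.image_singleton]
      exact f.isClosedMap _ (hcl y (subset_closure rfl))
  exact (IsFinite.iff_isProper_and_locallyQuasiFinite f).2 ⟨inferInstance, inferInstance⟩

variable {X : Scheme.{u}} [X.Over (Spec (CommRingCat.of k))] [IsProper (X ↘ Spec (CommRingCat.of k))] [IsIntegral X]

/-- In positive genus a module of degree two has at most two sections. -/
theorem h0_le_two (hdim : topologicalKrullDim X ≤ 1)
    (h00 : Module.finrank k (Coh.HH X (Coh.structureModule X) 0) = 1) (hg : 1 ≤ Curv2.genus k X)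
    {L : X.Modules} (hL : PicF.IsInvertible L) (hd : Curv2.deg k X L 1 = 2) :
    Module.finrank k (Coh.HH X L 0) ≤ 2 := by
  by_contra h
  haveI : Nontrivial (Coh.HH X L 0) := Module.nontrivial_of_finrank_pos (R := k) (by omega)
  have hb := (bounds_of_section (k := k) hdim hL inferInstance).2.1
  rw [h00, hd] at hb
  have h0 := genus_eq_zero_of_max_sections (k := k) hdim h00 hL (by omega) (by omega)
  omega

/-- A pencil of degree two in positive genus has no base point. -/
theorem isGloballyGenerated_of_pencil (hdim : topologicalKrullDim X = 1)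
    (hreg : ∀ x : X, IsRegularLocalRing (X.presheaf.stalk x))
    (h00 : Module.finrank k (Coh.HH X (Coh.structureModule X) 0) = 1) (hg : 1 ≤ Curv2.genus k X)
    {L : X.Modules} (hL : PicF.IsInvertible L) (hd : Curv2.deg k X L 1 = 2)
    (h2 : 2 ≤ Module.finrank k (Coh.HH X L 0)) : Curv2.IsGloballyGenerated L := by
  haveI := isNoetherian_of_proper (k := k) (X := X)
  refine isGloballyGenerated_of_closedPoints hL fun x hx => ?_
  haveI := hreg x
  have hI := isInvertible_pt_of_regular (k := k) hdim hx
  have hIc := H16Derived.KFlat.Stalk.isCoh_of_isFinLocFree (H28Pinch.isFinLocFree_of_isInvertible hI)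
  refine H29CurveDual.exists_mem_gen_of_h0_lt (k := k) hx hL hIc (lt_of_not_ge fun hge => ?_)
  obtain ⟨-, -, he⟩ := twist_point (k := k) hx hL hIc
  let M := CohB1.tensorMod (ClSub.idealMod (ptIdeal x)) L
  have hM : PicF.IsInvertible M := H11Ample.isInvertible_tensor hI hL
  change _ = Curv2.euler k X M + _ at he
  have hdeg : Curv2.deg k X M 1 = 2 - (Module.finrank k (X.residueField x) : ℤ) := by
    rw [deg_def] at hd ⊢
    omega
  have hres : 0 < Module.finrank k (X.residueField x) := by
    haveI : Module.Finite k (Coh.HH X (ClSub.quotMod (ptIdeal x)) 0) :=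
      H10Coh.finite_HH_proper k X _ (LeadDev.isCoh_push_structure (ptIdeal x).subschemeι) 0
    haveI : Module.Finite k (X.residueField x) := Module.Finite.equiv (nonempty_quotMod_pt_equiv (k := k) hx).some
    exact Module.finrank_pos
  haveI : Nontrivial (Coh.HH X M 0) := Module.nontrivial_of_finrank_pos (R := k)
    (lt_of_lt_of_le (by omega : 0 < Module.finrank k (Coh.HH X L 0)) hge)
  obtain ⟨hd0, hb, -, hiso⟩ := bounds_of_section (k := k) hdim.le hM inferInstance
  rw [h00] at hb
  have hM2 : 2 ≤ Module.finrank k (Coh.HH X M 0) := h2.trans hge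
  have hg0 : Curv2.genus k X = 0 :=
    genus_eq_zero_of_max_sections (k := k) hdim.le h00 hM (by omega) (by omega)
  omega

/-- A pencil of degree two in positive genus gives a double cover of the line. -/
theorem exists_double_cover (hdim : topologicalKrullDim X = 1)
    (hreg : ∀ x : X, IsRegularLocalRing (X.presheaf.stalk x))
    (h00 : Module.finrank k (Coh.HH X (Coh.structureModule X) 0) = 1) (hg : 1 ≤ Curv2.genus k X)
    {L : X.Modules} (hL : PicF.IsInvertible L) (hd : Curv2.deg k X L 1 = 2)
    (h2 : Module.finrank k (Coh.HH X L 0) = 2) :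
    ∃ f : X ⟶ CohB1.ProjSpace 1 k, f ≫ CohB1.ProjSpace.toSpec 1 k = X ↘ Spec (CommRingCat.of k) ∧
      IsFinite f ∧ Flat f ∧ f (genericPoint X) = genericPoint (CohB1.ProjSpace 1 k) ∧
      f.residueDegree (genericPoint X) = 2 := by
  haveI := isNoetherian_of_proper (k := k) (X := X)
  haveI := finite_HH (k := k) L hL 0
  let p := X ↘ Spec (CommRingCat.of k)
  have hgg := isGloballyGenerated_of_pencil (k := k) hdim hreg h00 hg hL hd h2.ge
  let b : Module.Basis (Fin 2) k (Coh.HH X L 0) := Module.finBasisOfFinrankEq k _ h2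
  let v : Fin (1 + 1) → Γ(L, ⊤) := fun i => sec L (b i)
  have hgen : ProjUP.GeneratedBy L v := fun x => by
    rw [eq_top_iff, ← spansAt_of_globallyGenerated hgg x, Submodule.span_le]
    rintro _ ⟨g, rfl⟩
    have hg' : g = ∑ i, H10Coh.globA (A := k) (X := X) (b.repr ((sec L).symm g) i) • v i := by
      conv_lhs => rw [← (sec L).apply_symm_apply g, ← b.sum_repr ((sec L).symm g), map_sum]
      exact Finset.sum_congr rfl fun i _ => sec_smul _ _ _
    show L.presheaf.germ ⊤ x trivial g ∈ _
    rw [hg', map_sum]
    refine Submodule.sum_mem _ fun i _ => ?_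
    rw [H17.AssPts.germ_smul']
    exact Submodule.smul_mem _ _ (Submodule.subset_span ⟨i, rfl⟩)
  have hcov : ∀ x, ∃ i, x ∈ H11Ample.gen L (v i) := fun x => H11QMap.exists_mem_gen_of_generatedBy hL v hgen x
  obtain ⟨f, hf, ⟨τ⟩, hpre, -⟩ := H11P1n.exists_toPn_ratio (n := 1) p hL v hcov
  obtain ⟨-, hPn, hPd⟩ := H28Curve.projLine_facts k
  haveI : IsProper (CohB1.ProjSpace.toSpec 1 k) := H27Weil.isProper_toSpec 1 k
  haveI : IsProper f := by
    haveI : IsProper (f ≫ CohB1.ProjSpace.toSpec 1 k) := by rw [hf]; infer_instance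
    exact IsProper.of_comp f (CohB1.ProjSpace.toSpec 1 k)
  have hnc : ∃ a c : X, f a ≠ f c := by
    by_contra hc
    push Not at hc
    obtain ⟨i, hi⟩ := hcov (genericPoint X)
    have hall : ∀ y, y ∈ H11Ample.gen L (v i) := fun y => by
      rw [← hpre i] at hi ⊢
      show f y ∈ Proj.basicOpen (CohB1.polyGrading 1 k) (MvPolynomial.X i)
      rw [hc y (genericPoint X)]
      exact hi
    let u : Coh.structureModule X ⟶ L := H11Tilde.homOfGlobal L (v i)
    haveI : IsIso u := H11Tilde.isIso_homOfGlobal L (v i) fun V => by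
      have he : H11Tilde.IsGen L (L.presheaf.map (homOfLE (le_top : V ≤ ⊤)).op (v i)) := fun z hz => by
        refine (congrArg Function.Bijective (funext fun r => ?_)).mp ((H11Ample.mem_gen_iff hL (v i) z).1 (hall z))
        rw [TopCat.Presheaf.germ_res_apply]
      refine ⟨fun r r' h => TopCat.Presheaf.section_ext X.sheaf V r r' fun z hz => (he z hz).1 ?_, fun t => ?_⟩
      · have h' := congrArg (L.presheaf.germ V z hz) h
        erw [H17.AssPts.germ_smul', H17.AssPts.germ_smul'] at h'
        exact h'
      · obtain ⟨c, hc⟩ := H11Ample.exists_coeff he t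
        exact ⟨c, hc.symm⟩
    rw [deg_congr (k := k) (asIso u).symm, deg_structureModule] at hd
    omega
  have hη := apply_genericPoint hPd.le f hnc
  haveI := isFinite_of_dominant hdim.le f hnc
  letI := H29RR.PnPic.overSpec 1 k
  haveI : IsProper (CohB1.ProjSpace 1 k ↘ Spec (CommRingCat.of k)) := ‹IsProper (CohB1.ProjSpace.toSpec 1 k)›
  haveI := isNoetherian_of_proper (k := k) (X := CohB1.ProjSpace 1 k)
  refine ⟨f, hf, inferInstance, H29Curve.flat_of_dominant_normal f hη (fun y => (hPn y).2) hPd.le, hη, ?_⟩
  have h := S7640.result k X (CohB1.ProjSpace 1 k) hdim hPd f hf hη 1 _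
    (rank_one_of_isInvertible ((H10Coh.Stab.isTwistFamily_projSpace 1 k).inv 1))
  rw [deg_congr (k := k) τ, hd, deg_twist_one, mul_one] at h
  exact_mod_cast h.symm

end Groth.Agent.H29DoubleCover
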