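import Groth.Agent.H21Taylor.GeomInt
import Groth.Agent.S1536

/-!
# Smooth geometrically connected proper schemes over a field
-/

set_option autoImplicit false
set_option linter.style.haveILetI false

universe u

open CategoryTheory CategoryTheory.Limits AlgebraicGeometry

namespace Groth.Agent.H29DoubleCover

variable {k : Type u} [Field k] {C : Scheme.{u}} (p : C ⟶ Spec (CommRingCat.of k)) [Smooth p] [GeometricallyConnected p]

include p in
theorem geometricallyIntegral_of_smooth_connected : GeometricallyIntegral p :=
  H21Taylor.geometricallyIntegral_of_smooth p fun _ =>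
    GeometricallyConnected.geometrically_connectedSpace _ _ _ (IsPullback.of_hasPullback _ _)

include p in
theorem isIntegral_of_smooth_connected : IsIntegral C :=
  haveI := geometricallyIntegral_of_smooth_connected p
  GeometricallyIntegral.geometrically_isIntegral (f := p) (𝟙 (Spec (CommRingCat.of k))) (𝟙 C) p
    (IsPullback.of_horiz_isIso ⟨by simp⟩)

theorem finrank_h0_structure [IsProper p] :
    letI : C.Over (Spec (CommRingCat.of k)) := ⟨p⟩
    Module.finrank k (Coh.HH C (Coh.structureModule C) 0) = 1 := by
  letI : C.Over (Spec (CommRingCat.of k)) := ⟨p⟩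
  haveI := geometricallyIntegral_of_smooth_connected p
  haveI : IsProper (C ↘ Spec (CommRingCat.of k)) := ‹IsProper p›
  haveI : GeometricallyConnected (C ↘ Spec (CommRingCat.of k)) := ‹GeometricallyConnected p›
  haveI : GeometricallyReduced (C ↘ Spec (CommRingCat.of k)) := inferInstanceAs (GeometricallyReduced p)
  exact S1536.result k C

end Groth.Agent.H29DoubleCover
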