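import Groth.Agent.H29DoubleCover.Separable
import Groth.Agent.H29GenusZero.Basic
import Groth.Agent.H8Props.Stein.FieldBase
import Groth.Agent.H11P1n.Mult
import Groth.Agent.H27FibreRank.Generic
import Groth.Agent.H06Unram.SmoothQF
import Groth.Agent.H29CurveDual.Canonical
import Groth.Agent.H19Grp.RegularSmooth

/-!
# Hyperelliptic curves
-/

set_option autoImplicit false
set_option linter.style.haveILetI false

universe u

open CategoryTheory CategoryTheory.Limits AlgebraicGeometry TopologicalSpace
open Groth.Agent.H29RR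

namespace Groth.Agent.H29DoubleCover

attribute [local instance 10000] H10Coh.hasSheafifyAb H10Coh.hasWeakSheafifyAb H10Coh.hasExtAb H10Coh.enoughInjAb
attribute [local instance] Curv2.resAlgebra

variable {k : Type u} [Field k] {X : Scheme.{u}} [X.Over (Spec (CommRingCat.of k))]

section
variable [IsProper (X ↘ Spec (CommRingCat.of k))] [IsIntegral X]

theorem regular_of_smooth [Smooth (X ↘ Spec (CommRingCat.of k))] (x : X) :
    IsRegularLocalRing (X.presheaf.stalk x) :=
  H19Grp.isRegularLocalRing_stalk_of_smooth (X ↘ Spec (CommRingCat.of k)) x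

/-- Constant global functions give geometric connectedness. -/
theorem geometricallyConnected_of_h0 (h00 : Module.finrank k (Coh.HH X (Coh.structureModule X) 0) = 1) :
    GeometricallyConnected (X ↘ Spec (CommRingCat.of k)) := by
  let φ : k →+* Γ(X, ⊤) := H10Coh.globA (A := k) (X := X)
  haveI : Nonempty (⊤ : X.Opens) := ⟨⟨genericPoint X, trivial⟩⟩
  haveI : Nontrivial Γ(X, ⊤) := X.component_nontrivial ⊤
  have hsurj : ∀ a : Γ(X, ⊤), ∃ c : k, φ c = a := by
    intro a
    let x₀ : Coh.HH X (Coh.structureModule X) 0 := (sec _).symm (1 : Γ(X, ⊤))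
    have hx₀ : x₀ ≠ 0 := fun h => one_ne_zero (α := Γ(X, ⊤)) ((sec (Coh.structureModule X)).symm.injective (h.trans (map_zero _).symm))
    obtain ⟨c, hc⟩ := exists_smul_eq_of_finrank_eq_one h00 hx₀ ((sec _).symm a)
    refine ⟨c, ?_⟩
    have h := congrArg (sec (Coh.structureModule X)) hc
    rw [sec_smul, AddEquiv.apply_symm_apply, AddEquiv.apply_symm_apply] at h
    rw [← h]
    exact (mul_one (φ c)).symm
  have hbij : Function.Bijective φ := ⟨φ.injective, hsurj⟩
  let e := RingEquiv.ofBijective φ hbij
  rw [H8Props.Stein.geometricallyConnected_field_iff k]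
  refine ⟨e.isLocalRing, ?_, fun a => ?_⟩
  · rw [← ringKrullDim_eq_of_ringEquiv e]
    exact ringKrullDim_eq_zero_of_field k
  · obtain ⟨c, rfl⟩ := hsurj a
    refine ⟨0, c, ?_⟩
    rw [pow_zero, pow_one]
    exact ⟨1, (pow_one _).trans (sub_self _)⟩

/-- A module with a section generating everywhere has degree zero. -/
theorem deg_eq_zero_of_gen {L : X.Modules} (hL : PicF.IsInvertible L) (g : Γ(L, ⊤))
    (hall : ∀ y, y ∈ H11Ample.gen L g) : Curv2.deg k X L 1 = 0 := by
  let u : Coh.structureModule X ⟶ L := H11Tilde.homOfGlobal L g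
  haveI : IsIso u := H11Tilde.isIso_homOfGlobal L g fun V => by
    have he : H11Tilde.IsGen L (L.presheaf.map (homOfLE (le_top : V ≤ ⊤)).op g) := fun z hz => by
      refine (congrArg Function.Bijective (funext fun r => ?_)).mp ((H11Ample.mem_gen_iff hL g z).1 (hall z))
      rw [TopCat.Presheaf.germ_res_apply]
    refine ⟨fun r r' h => TopCat.Presheaf.section_ext X.sheaf V r r' fun z hz => (he z hz).1 ?_, fun t => ?_⟩
    · have h' := congrArg (L.presheaf.germ V z hz) h
      erw [H17.AssPts.germ_smul', H17.AssPts.germ_smul'] at h'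
      exact h'
    · obtain ⟨c, hc⟩ := H11Ample.exists_coeff he t
      exact ⟨c, hc.symm⟩
  rw [deg_congr (k := k) (asIso u).symm, deg_structureModule]

/-- A finite morphism from a curve is not constant. -/
theorem exists_ne_of_isFinite {X : Scheme.{u}} [IsIntegral X] [JacobsonSpace X] (hdim : topologicalKrullDim X = 1)
    {Y : Scheme.{u}} (f : X ⟶ Y) [IsFinite f] :
    ∃ a c : X, f a ≠ f c := by
  by_contra hc
  push Not at hc
  haveI : Finite X := by
    rw [← Set.finite_univ_iff]
    refine (f.finite_preimage_singleton (f (genericPoint X))).subset fun z _ => hc z _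
  haveI : DiscreteTopology X := inferInstance
  haveI : Subsingleton X := ⟨fun a b => by
    have h : ∀ z : X, genericPoint X = z := fun z => ((genericPoint_spec X).specializes trivial).eq
    rw [← h a, ← h b]⟩
  haveI : Subsingleton (TopologicalSpace.IrreducibleCloseds X) := ⟨fun A B => TopologicalSpace.IrreducibleCloseds.ext <| by
    rw [Subsingleton.eq_univ_of_nonempty A.isIrreducible.nonempty, Subsingleton.eq_univ_of_nonempty B.isIrreducible.nonempty]⟩
  have h0 : topologicalKrullDim X ≤ 0 := Order.krullDim_nonpos_of_subsingleton (α := TopologicalSpace.IrreducibleCloseds X)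
  rw [hdim] at h0
  exact absurd h0 (by decide)

/-- A double cover of the line pulls back the hyperplane bundle to a pencil of degree two. -/
theorem pencil_of_double_cover (hdim : topologicalKrullDim X = 1)
    (h00 : Module.finrank k (Coh.HH X (Coh.structureModule X) 0) = 1) (hg : 1 ≤ Curv2.genus k X)
    (f : X ⟶ CohB1.ProjSpace 1 k) [IsFinite f]
    (hf : f ≫ CohB1.ProjSpace.toSpec 1 k = X ↘ Spec (CommRingCat.of k))
    (h2 : f.residueDegree (genericPoint X) = 2) :
    ∃ L : X.Modules, PicF.IsInvertible L ∧ Curv2.deg k X L 1 = 2 ∧ Module.finrank k (Coh.HH X L 0) = 2 := by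
  haveI := isNoetherian_of_proper (k := k) (X := X)
  obtain ⟨-, hPn, hPd⟩ := H28Curve.projLine_facts k
  letI := H29RR.PnPic.overSpec 1 k
  haveI : IsProper (CohB1.ProjSpace 1 k ↘ Spec (CommRingCat.of k)) := H27Weil.isProper_toSpec 1 k
  haveI := isNoetherian_of_proper (k := k) (X := CohB1.ProjSpace 1 k)
  let η := genericPoint X
  haveI : JacobsonSpace X := LocallyOfFiniteType.jacobsonSpace (X ↘ Spec (CommRingCat.of k))
  have hnc := exists_ne_of_isFinite hdim f
  have hη := apply_genericPoint hPd.le f hnc
  let O1 := Twist.twistProjSpace 1 k 1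
  have hO1 : PicF.IsInvertible O1 := (H10Coh.Stab.isTwistFamily_projSpace 1 k).inv 1
  let L := (Scheme.Modules.pullback f).obj O1
  have hL : PicF.IsInvertible L := H11Ample.isInvertible_pullback f hO1
  have hd : Curv2.deg k X L 1 = 2 := by
    have h := S7640.result k X (CohB1.ProjSpace 1 k) hdim hPd f hf hη 1 O1 (rank_one_of_isInvertible hO1)
    rw [h2, deg_twist_one, mul_one] at h
    exact_mod_cast h
  refine ⟨L, hL, hd, le_antisymm (h0_le_two hdim.le h00 hg hL hd) ?_⟩
  haveI := finite_HH (k := k) L hL 0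
  let s : Fin 2 → Γ(L, ⊤) := fun i => H11Ample.pullTop f (ProjUP.coord 1 k i)
  have hgen : ∀ i, H11Ample.gen L (s i) = f ⁻¹ᵁ Proj.basicOpen (CohB1.polyGrading 1 k) (MvPolynomial.X i) := fun i =>
    (H11P1n.gen_pullTop f hO1 _).trans (congrArg (f ⁻¹ᵁ ·) (H11Ample.gen_coord i))
  have hcov : ∀ y : X, y ∈ H11Ample.gen L (s 0) ∨ y ∈ H11Ample.gen L (s 1) := fun y => by
    obtain ⟨i, hi⟩ := H11Ample.exists_mem_basicOpen_X (n := 1) (R := k) (f y)
    fin_cases i
    · exact Or.inl ((hgen 0).ge hi)
    · exact Or.inr ((hgen 1).ge hi)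
  have hsub : ∀ (i j : Fin 2) (c : k), s i = H10Coh.globA (A := k) (X := X) c • s j →
      ∀ y, y ∈ H11Ample.gen L (s i) → y ∈ H11Ample.gen L (s j) := by
    intro i j c hij y hy
    rcases eq_or_ne c 0 with rfl | hc
    · rw [map_zero, zero_smul] at hij
      have h := ((H11Ample.mem_gen_iff hL (s i) y).1 hy).1 (a₁ := 0) (a₂ := 1) (by
        show (0 : X.presheaf.stalk y) • _ = (1 : X.presheaf.stalk y) • _
        rw [hij, map_zero, smul_zero, smul_zero])
      exact absurd h zero_ne_one
    · rw [hij, H11Ample.gen_smul_pullSect f hO1 _ ((isUnit_iff_ne_zero.2 hc).map _)] at hy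
      rwa [show s j = H11Ample.pullTop f (ProjUP.coord 1 k j) from rfl, H11P1n.gen_pullTop f hO1]
  by_contra hlt
  have hdep : ¬ LinearIndependent k ![(sec L).symm (s 0), (sec L).symm (s 1)] := fun h => hlt
    (le_trans (le_of_eq (Fintype.card_fin 2).symm) h.fintype_card_le_finrank)
  rw [LinearIndependent.pair_iff] at hdep
  push Not at hdep
  obtain ⟨a, b, hab, hne⟩ := hdep
  have h := congrArg (sec L) hab
  rw [map_add, map_zero, sec_smul, sec_smul, AddEquiv.apply_symm_apply, AddEquiv.apply_symm_apply] at h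
  have hall : ∀ (i j : Fin 2) (c : k), i ≠ j → s i = H10Coh.globA (A := k) (X := X) c • s j → False := by
    intro i j c hij hc
    refine absurd (deg_eq_zero_of_gen (k := k) hL (s j) fun y => ?_) (by rw [hd]; norm_num)
    rcases hcov y with hy | hy <;> fin_cases i <;> fin_cases j <;>
      first | exact hy | exact hsub _ _ c hc y hy | exact absurd rfl hij
  by_cases ha : a = 0
  · have hb : b ≠ 0 := hne ha
    subst ha
    rw [map_zero, zero_smul, zero_add] at h
    refine hall 1 0 0 (by decide) ?_
    rw [map_zero, zero_smul]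
    exact ((isUnit_iff_ne_zero.2 hb).map (H10Coh.globA (A := k) (X := X))).smul_eq_zero.1 h
  · refine hall 0 1 (-(a⁻¹ * b)) (by decide) ?_
    have h' := congrArg (H10Coh.globA (A := k) (X := X) a⁻¹ • ·) h
    simp only [smul_add, smul_smul, ← map_mul, inv_mul_cancel₀ ha, map_one, one_smul, smul_zero] at h'
    rw [map_neg, neg_smul]
    exact eq_neg_of_add_eq_zero_left h'

/-- A pencil of degree two in positive genus gives a separable double cover. -/
theorem exists_separable_double_cover [Smooth (X ↘ Spec (CommRingCat.of k))] (hdim : topologicalKrullDim X = 1)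
    (h00 : Module.finrank k (Coh.HH X (Coh.structureModule X) 0) = 1) (hg : 1 ≤ Curv2.genus k X)
    {L : X.Modules} (hL : PicF.IsInvertible L) (hd : Curv2.deg k X L 1 = 2)
    (h2 : Module.finrank k (Coh.HH X L 0) = 2) :
    ∃ f : X ⟶ CohB1.ProjSpace 1 k, f ≫ CohB1.ProjSpace.toSpec 1 k = X ↘ Spec (CommRingCat.of k) ∧
      IsFinite f ∧ Flat f ∧ f (genericPoint X) = genericPoint (CohB1.ProjSpace 1 k) ∧
      f.residueDegree (genericPoint X) = 2 ∧
      letI := (f.residueFieldMap (genericPoint X)).hom.toAlgebra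
      Algebra.IsSeparable ((CohB1.ProjSpace 1 k).residueField (f (genericPoint X))) (X.residueField (genericPoint X)) := by
  haveI := geometricallyConnected_of_h0 (k := k) (X := X) h00
  obtain ⟨f, hf, hfin, hfl, hη, hr⟩ :=
    exists_double_cover (k := k) hdim (regular_of_smooth (k := k)) h00 hg hL hd h2
  haveI := hfin
  refine ⟨f, hf, hfin, hfl, hη, hr, ?_⟩
  by_contra hs
  have := genus_eq_zero_of_inseparable (k := k) hdim f hf hη hr hs
  omega

/-- A separable double cover has fibres of rank two everywhere and is etale over a nonempty open. -/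
theorem rank_and_etale (f : X ⟶ CohB1.ProjSpace 1 k) [IsFinite f] [Flat f] (hdim : topologicalKrullDim X = 1)
    (hf : f ≫ CohB1.ProjSpace.toSpec 1 k = X ↘ Spec (CommRingCat.of k))
    (hη : f (genericPoint X) = genericPoint (CohB1.ProjSpace 1 k))
    (hr : f.residueDegree (genericPoint X) = 2)
    (hs : letI := (f.residueFieldMap (genericPoint X)).hom.toAlgebra
      Algebra.IsSeparable ((CohB1.ProjSpace 1 k).residueField (f (genericPoint X))) (X.residueField (genericPoint X))) :
    (∀ y : ↥(CohB1.ProjSpace 1 k), Scheme.Hom.finrank f y = 2) ∧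
      ∃ V : X.Opens, (V : Set X).Nonempty ∧ Etale (V.ι ≫ f) := by
  haveI := isNoetherian_of_proper (k := k) (X := X)
  obtain ⟨-, -, hPd⟩ := H28Curve.projLine_facts k
  haveI : IsProper (CohB1.ProjSpace.toSpec 1 k) := H27Weil.isProper_toSpec 1 k
  haveI : IsLocallyNoetherian (CohB1.ProjSpace 1 k) :=
    LocallyOfFiniteType.isLocallyNoetherian (CohB1.ProjSpace.toSpec 1 k)
  haveI : IsDominant f := ⟨(dense_iff_closure_eq).2 (Set.eq_univ_of_univ_subset (by
    rw [← (genericPoint_spec (CohB1.ProjSpace 1 k)).def, ← hη]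
    exact closure_mono (Set.singleton_subset_iff.2 ⟨_, rfl⟩)))⟩
  haveI : LocallyOfFinitePresentation f := inferInstance
  refine ⟨fun y => ?_, ?_⟩
  · rw [f.isLocallyConstant_finrank.apply_eq_of_isPreconnected isPreconnected_univ (Set.mem_univ y)
      (Set.mem_univ (genericPoint (CohB1.ProjSpace 1 k))),
      H27FibreRank.finrank_genericPoint f (H27FibreRank.preimage_genericPoint (X ↘ Spec (CommRingCat.of k))
        (CohB1.ProjSpace.toSpec 1 k) f hf (hdim.trans hPd.symm)), hr]
  let η := genericPoint X
  have hXb := H29CurveDual.bijective_residue_genericPoint (rfl : η = genericPoint X)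
  have hPb := H29CurveDual.bijective_residue_genericPoint (X := CohB1.ProjSpace 1 k) (x := f η) hη
  have hsm : η ∈ f.smoothLocus := by
    rw [Scheme.Hom.mem_smoothLocus]
    haveI : IsIso (X.residue η) := (ConcreteCategory.isIso_iff_bijective _).2 hXb
    have heq : f.stalkMap η = (CohB1.ProjSpace 1 k).residue (f η) ≫ f.residueFieldMap η ≫ inv (X.residue η) := by
      rw [Scheme.residue_residueFieldMap_assoc, IsIso.hom_inv_id, Category.comp_id]
    have hmid : (f.residueFieldMap η).hom.FormallySmooth := by
      letI := (f.residueFieldMap η).hom.toAlgebra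
      haveI : Algebra.IsSeparable ((CohB1.ProjSpace 1 k).residueField (f η)) (X.residueField η) := hs
      haveI : Algebra.FormallyEtale ((CohB1.ProjSpace 1 k).residueField (f η)) (X.residueField η) :=
        Algebra.FormallyEtale.of_isSeparable _ _
      show Algebra.FormallySmooth _ _
      infer_instance
    rw [heq, CommRingCat.hom_comp, CommRingCat.hom_comp]
    exact RingHom.FormallySmooth.stableUnderComposition _ _ (RingHom.FormallySmooth.of_bijective hPb)
      (RingHom.FormallySmooth.stableUnderComposition _ _ hmid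
        (RingHom.FormallySmooth.of_bijective (ConcreteCategory.bijective_of_isIso (inv (X.residue η)))))
  refine ⟨f.smoothLocus, ⟨η, hsm⟩, (H06Unram.etale_iff_smooth_and_locallyQuasiFinite _).2 ⟨?_, inferInstance⟩⟩
  rw [← Scheme.Hom.smoothLocus_eq_top_iff, ← Scheme.Hom.preimage_smoothLocus_eq, Scheme.Opens.ι_preimage_self]

end

end Groth.Agent.H29DoubleCover
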