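import Groth.Agent.H18Quot.Exists
import Groth.Agent.H27Quot.Points
import Groth.Agent.H22Alg.FiniteDegree
import Groth.Agent.H22Alg.ESZ
import Groth.Agent.H29Curve.Morphism
import Groth.Agent.H29Curve.Trdeg
import Groth.Agent.H29CurveDual.Facts
import Groth.Agent.H29DoubleCover.Connected
import Groth.Agent.H29DoubleCover.Hyperelliptic
import Groth.Agent.H8Props.NormalLowDim
import Groth.Agent.H7Lim.Birational
import Groth.Agent.S2908
import Groth.Agent.S2909

/-!
# Quotients of curves by finite groups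
-/

set_option autoImplicit false
set_option linter.style.haveILetI false

universe u

open CategoryTheory CategoryTheory.Limits AlgebraicGeometry TopologicalSpace

namespace Groth.Agent.H29DoubleCover

variable {k : Type u} [Field k] {X Y : Scheme.{u}} (p : X ⟶ Spec (CommRingCat.of k)) [IsProper p] [Smooth p]
  [IsIntegral X] {G : Type u} [Group G] [Finite G] {ρ : G →* Aut X}

/-- Invariants of an integrally closed domain form an integrally closed domain. -/
theorem isIntegrallyClosed_invariants {A B : Type u} [CommRing A] [CommRing B] [IsDomain A] [IsDomain B]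
    [IsIntegrallyClosed A] [Algebra B A] [FaithfulSMul B A] {H : Type u} [Group H] [MulSemiringAction H A]
    (hfix : ∀ (g : H) (b : B), g • algebraMap B A b = algebraMap B A b)
    (hinv : ∀ a : A, (∀ g : H, g • a = a) → ∃ b, algebraMap B A b = a) : IsIntegrallyClosed B := by
  refine (isIntegrallyClosed_iff (FractionRing B)).2 fun {z} hz => ?_
  obtain ⟨b₁, b₂, hb₂, rfl⟩ := IsFractionRing.div_surjective (A := B) z
  have hb₂0 : b₂ ≠ 0 := nonZeroDivisors.ne_zero hb₂
  have hinj : Function.Injective ((algebraMap A (FractionRing A)).comp (algebraMap B A)) :=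
    (IsFractionRing.injective A _).comp (FaithfulSMul.algebraMap_injective B A)
  let ι : FractionRing B →+* FractionRing A := IsFractionRing.lift hinj
  have hι : ∀ b, ι (algebraMap B _ b) = algebraMap A _ (algebraMap B A b) := fun b =>
    IsFractionRing.lift_algebraMap hinj b
  obtain ⟨F, hF, hF0⟩ := hz
  obtain ⟨a, ha⟩ := IsIntegrallyClosed.isIntegral_iff.1
    (show _root_.IsIntegral A (ι (algebraMap B _ b₁ / algebraMap B _ b₂)) from
      ⟨F.map (algebraMap B A), hF.map _, by
        rw [Polynomial.eval₂_map, show (algebraMap A (FractionRing A)).comp (algebraMap B A) =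
          ι.comp (algebraMap B (FractionRing B)) from RingHom.ext fun b => (hι b).symm,
          ← Polynomial.hom_eval₂, hF0, map_zero]⟩)
  rw [map_div₀, hι, hι, eq_div_iff (show algebraMap A (FractionRing A) (algebraMap B A b₂) ≠ 0 from
    fun h => hb₂0 (hinj (h.trans (map_zero _).symm))), ← map_mul] at ha
  have hab := IsFractionRing.injective A _ ha
  obtain ⟨b, rfl⟩ := hinv a fun g => by
    refine mul_right_cancel₀ (fun h => hb₂0 (FaithfulSMul.algebraMap_injective B A (h.trans (map_zero _).symm))) ?_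
    calc g • a * algebraMap B A b₂ = g • (a * algebraMap B A b₂) := by rw [smul_mul', hfix]
      _ = a * algebraMap B A b₂ := by rw [hab, hfix]
  rw [← map_mul] at hab
  refine ⟨b, ?_⟩
  rw [eq_div_iff (fun h => hb₂0 (IsFractionRing.injective B _ (h.trans (map_zero _).symm))), ← map_mul,
    FaithfulSMul.algebraMap_injective B A hab]

include p in
/-- Quotients of smooth proper curves by finite groups exist. -/
theorem exists_quotient_curve (hX : topologicalKrullDim X = 1) (ρ : G →* Aut X) :
    ∃ (Y : Scheme.{u}) (π : X ⟶ Y), SGA1.IsQuot ρ π := by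
  obtain ⟨f, hf, hfin, -, -, -⟩ := H29CurveDual.exists_morphism_line p hX
  haveI := hfin
  haveI : IsProper (CohB1.ProjSpace.toSpec 1 k) := H27Weil.isProper_toSpec 1 k
  haveI : CompactSpace (CohB1.ProjSpace 1 k) :=
    QuasiCompact.compactSpace_of_compactSpace (CohB1.ProjSpace.toSpec 1 k)
  haveI : QuasiSeparatedSpace (CohB1.ProjSpace 1 k) :=
    quasiSeparatedSpace_of_quasiSeparated (CohB1.ProjSpace.toSpec 1 k)
  refine H18Quot.Exists.exists_quotient ρ fun x => ?_
  obtain ⟨n, s, -, hZ, -, haff⟩ := H11Ample.exists_affine_gen_nhd_finite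
    (H22Alg.ESZ.isAmple_one (k := k) (r := 1) le_rfl) (Z := Set.range fun g : G => f ((ρ g).hom x))
    (Set.finite_range _) (U := ⊤) (fun _ _ => trivial)
  exact ⟨_, haff.preimage f, fun g => hZ ⟨g, rfl⟩⟩

omit [Smooth p] [IsProper p] [IsIntegral X] [Finite G] in
/-- The action on the functions of the preimage of an open of the quotient. -/
theorem exists_action {π : X ⟶ Y} (hq : SGA1.IsQuot ρ π) (U : Y.Opens) :
    letI := (π.app U).hom.toAlgebra
    ∃ _ : MulSemiringAction G Γ(X, π ⁻¹ᵁ U), (∀ (g : G) (a : Γ(X, π ⁻¹ᵁ U)), g • a = H27Quot.act hq U g⁻¹ a) ∧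
      (∀ (g : G) (b : Γ(Y, U)), g • algebraMap Γ(Y, U) Γ(X, π ⁻¹ᵁ U) b = algebraMap _ _ b) ∧
      ∀ a, (∀ g : G, g • a = a) → ∃ b, algebraMap Γ(Y, U) Γ(X, π ⁻¹ᵁ U) b = a := by
  letI := (π.app U).hom.toAlgebra
  refine ⟨{ smul := fun g a => H27Quot.act hq U g⁻¹ a
            one_smul := fun a => by show H27Quot.act hq U (1 : G)⁻¹ a = a; rw [inv_one, H27Quot.act_one]
            mul_smul := fun g h a => by
              show H27Quot.act hq U (g * h)⁻¹ a = H27Quot.act hq U g⁻¹ (H27Quot.act hq U h⁻¹ a)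
              rw [mul_inv_rev, H27Quot.act_mul]
            smul_zero := fun g => map_zero (H27Quot.act hq U g⁻¹)
            smul_add := fun g => map_add (H27Quot.act hq U g⁻¹)
            smul_one := fun g => map_one (H27Quot.act hq U g⁻¹)
            smul_mul := fun g => map_mul (H27Quot.act hq U g⁻¹) }, fun _ _ => rfl, fun g b => ?_, fun a ha => ?_⟩
  · exact (hq.range_iff U _).mp ⟨b, rfl⟩ g⁻¹
  · refine (hq.range_iff U a).mpr fun g => ?_
    have h : H27Quot.act hq U g⁻¹⁻¹ a = a := ha g⁻¹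
    rwa [inv_inv] at h

variable {π : X ⟶ Y} {q : Y ⟶ Spec (CommRingCat.of k)}

include p in
/-- The quotient of a smooth proper curve by a finite group is a normal proper curve. -/
theorem quotient_facts (hX : topologicalKrullDim X = 1) (hρk : ∀ g, (ρ g).hom ≫ p = p)
    (hq : SGA1.IsQuot ρ π) (hπ : π ≫ q = p) :
    IsIntegral Y ∧ IsProper q ∧ IsFinite π ∧ Flat π ∧ (∀ [IrreducibleSpace Y], π (genericPoint X) = genericPoint Y) ∧
      topologicalKrullDim Y = 1 ∧ (∀ y : Y, IsIntegrallyClosed (Y.presheaf.stalk y)) ∧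
      ∀ y : Y, IsRegularLocalRing (Y.presheaf.stalk y) := by
  obtain ⟨-, hsep, hfin, hft⟩ := S2909.result ρ π hq p q hπ hρk
  haveI : IsFinite π := hfin inferInstance
  haveI : IsSeparated q := hsep.1 inferInstance
  haveI : IsLocallyNoetherian (Spec (CommRingCat.of k)) := inferInstance
  obtain ⟨hlft, hqc⟩ := hft inferInstance inferInstance inferInstance
  haveI := hlft
  haveI := hqc
  obtain ⟨hsurj, -, hquot⟩ := S2908.result ρ π hq
  haveI : Surjective π := ⟨hsurj⟩
  haveI : UniversallyClosed (π ≫ q) := by rw [hπ]; infer_instance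
  haveI : UniversallyClosed q := UniversallyClosed.of_comp_surjective π q
  haveI hproper : IsProper q := ⟨⟩
  haveI : IrreducibleSpace Y := (irreducibleSpace_def Y).2 (by
    have h := (IrreducibleSpace.isIrreducible_univ X).image π π.continuous.continuousOn
    rwa [Set.image_univ, hsurj.range_eq] at h)
  haveI : IsReduced Y := ⟨fun U => isReduced_of_injective (π.app U).hom (hq.injective U)⟩
  haveI : IsIntegral Y := isIntegral_of_irreducibleSpace_of_isReduced Y
  haveI : IsLocallyNoetherian Y := LocallyOfFiniteType.isLocallyNoetherian q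
  have hη : π (genericPoint X) = genericPoint Y :=
    ((genericPoint_spec X).image π.continuous).eq (by
      rw [Set.image_univ, hsurj.range_eq, closure_univ]; exact genericPoint_spec Y)
  have hN : ∀ x : X, IsIntegrallyClosed (X.presheaf.stalk x) := fun x =>
    (H28Neron.isNormalScheme_of_smooth p (isNormalScheme_spec_field k) x).2
  have hNY : ∀ y : Y, IsIntegrallyClosed (Y.presheaf.stalk y) := by
    intro y
    obtain ⟨U, hU, hyU, -⟩ := exists_isAffineOpen_mem_and_subset (X := Y) (x := y) (U := ⊤) trivial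
    have hη' : genericPoint Y ∈ U := (genericPoint_spec Y).specializes (Set.mem_univ y) |>.mem_open U.2 hyU
    haveI : Nonempty U := ⟨⟨y, hyU⟩⟩
    haveI : Nonempty (π ⁻¹ᵁ U) := ⟨⟨genericPoint X, by show π _ ∈ U; rw [hη]; exact hη'⟩⟩
    haveI := H7Lim.isIntegrallyClosed_section hN (hU.preimage π)
    letI := (π.app U).hom.toAlgebra
    obtain ⟨_, -, hfix, hinv⟩ := exists_action hq U
    haveI : FaithfulSMul Γ(Y, U) Γ(X, π ⁻¹ᵁ U) :=
      (faithfulSMul_iff_algebraMap_injective _ _).mpr (hq.injective U)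
    haveI := isIntegrallyClosed_invariants (A := Γ(X, π ⁻¹ᵁ U)) (B := Γ(Y, U)) (H := G) hfix hinv
    letI := TopCat.Presheaf.algebra_section_stalk Y.presheaf (⟨y, hyU⟩ : U)
    haveI := hU.isLocalization_stalk ⟨y, hyU⟩
    exact isIntegrallyClosed_of_isLocalization (Y.presheaf.stalk y) (hU.primeIdealOf ⟨y, hyU⟩).asIdeal.primeCompl
      (Ideal.primeCompl_le_nonZeroDivisors _)
  have hdim : topologicalKrullDim Y = 1 := by
    refine le_antisymm ?_ ?_
    · rw [← hX]
      exact H17.topologicalKrullDim_le_of_specializingMap π π.isClosedMap.specializingMap hsurj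
    · rw [topologicalKrullDim, Order.one_le_krullDim_iff]
      haveI : JacobsonSpace X := LocallyOfFiniteType.jacobsonSpace p
      obtain ⟨a, b, hab⟩ : ∃ a b : X, π a ≠ π b := exists_ne_of_isFinite hX π
      haveI : JacobsonSpace Y := LocallyOfFiniteType.jacobsonSpace q
      obtain ⟨y, -, hy⟩ := nonempty_inter_closedPoints (X := Y) (Z := Set.univ) Set.univ_nonempty
        isClosed_univ.isLocallyClosed
      refine ⟨⟨{y}, isIrreducible_singleton, hy⟩, ⟨Set.univ, IrreducibleSpace.isIrreducible_univ Y, isClosed_univ⟩,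
        lt_of_le_of_ne (Set.subset_univ _) fun h => hab ?_⟩
      have h' : ({y} : Set Y) = Set.univ := congrArg SetLike.coe h
      exact (Set.eq_univ_iff_forall.1 h' (π a)).trans (Set.eq_univ_iff_forall.1 h' (π b)).symm
  refine ⟨inferInstance, hproper, inferInstance, H29Curve.flat_of_dominant_normal π hη hNY hdim.le, fun {_} => hη, hdim, hNY,
    fun y => ?_⟩
  haveI := hNY y
  exact H8Props.NormalLowDim.isRegularLocalRing_of_dim_le_one (Y.presheaf.stalk y)
    ((H8Props.FlatDimOneBase.ringKrullDim_stalk_le Y y).trans hdim.le)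

include p in
/-- The degree of the quotient map. -/
theorem quotient_finrank (hX : topologicalKrullDim X = 1) (hρ : Function.Injective ρ)
    (hρk : ∀ g, (ρ g).hom ≫ p = p) (hq : SGA1.IsQuot ρ π) (hπ : π ≫ q = p) (y : Y) :
    π.finrank y = Nat.card G := by
  obtain ⟨hint, hproper, hfin, hflat, hη, -, -, -⟩ := quotient_facts p hX hρk hq hπ
  haveI := hint
  haveI := hproper
  haveI := hfin
  haveI := hflat
  haveI : IsLocallyNoetherian Y := LocallyOfFiniteType.isLocallyNoetherian q
  haveI : LocallyOfFinitePresentation π := inferInstance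
  obtain ⟨U, hU, hyU, -⟩ := exists_isAffineOpen_mem_and_subset (X := Y) (x := y) (U := ⊤) trivial
  haveI : Nonempty U := ⟨⟨y, hyU⟩⟩
  have hη' : genericPoint Y ∈ U := (genericPoint_spec Y).specializes (Set.mem_univ y) |>.mem_open U.2 hyU
  have hA : IsAffineOpen (π ⁻¹ᵁ U) := hU.preimage π
  haveI : Nonempty (π ⁻¹ᵁ U) := ⟨⟨genericPoint X, by show π _ ∈ U; rw [hη]; exact hη'⟩⟩
  letI := (π.app U).hom.toAlgebra
  obtain ⟨_, hsmul, hfix, hinv⟩ := exists_action hq U
  haveI : Module.Finite Γ(Y, U) Γ(X, π ⁻¹ᵁ U) := IsFinite.finite_app π U hU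
  haveI : FaithfulSMul Γ(Y, U) Γ(X, π ⁻¹ᵁ U) :=
    (faithfulSMul_iff_algebraMap_injective _ _).mpr (hq.injective U)
  haveI : IsGaloisGroup G Γ(Y, U) Γ(X, π ⁻¹ᵁ U) :=
    { faithful := ⟨fun {g₁ g₂} h => by
        have htriv : ∀ g : G, (∀ a : Γ(X, π ⁻¹ᵁ U), g • a = a) → g = 1 := fun g hg => by
          refine inv_eq_one.1 (hρ ?_)
          rw [map_one]
          refine Iso.ext ?_
          have he : hA.fromSpec ≫ (ρ g⁻¹).hom = hA.fromSpec ≫ 𝟙 X := by
            rw [← hA.SpecMap_appLE_fromSpec (ρ g⁻¹).hom hA (SGA1.preimage_le_of_inv ρ π hq.inv g⁻¹ U),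
              show (ρ g⁻¹).hom.appLE (π ⁻¹ᵁ U) (π ⁻¹ᵁ U) (SGA1.preimage_le_of_inv ρ π hq.inv g⁻¹ U) = 𝟙 _ from
                CommRingCat.hom_ext (RingHom.ext fun a => (hsmul g a).symm.trans (hg a)), Spec.map_id,
              Category.id_comp, Category.comp_id]
          haveI : IsDominant hA.fromSpec := ⟨(IsOpenImmersion.isOpen_range hA.fromSpec).dense (by
            rw [hA.range_fromSpec]; exact Set.nonempty_coe_sort.1 ‹Nonempty (π ⁻¹ᵁ U)›)⟩
          exact ext_of_isDominant_of_isSeparated p (show (ρ g⁻¹).hom ≫ p = (Iso.refl X).hom ≫ p by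
            rw [hρk]; exact (Category.id_comp p).symm) hA.fromSpec he
        refine (inv_mul_eq_one.1 (htriv (g₁⁻¹ * g₂) fun a => ?_))
        rw [mul_smul, ← h a, inv_smul_smul]⟩
      commutes := ⟨fun g b a => by rw [Algebra.smul_def, Algebra.smul_def, smul_mul', hfix]⟩
      isInvariant := ⟨hinv⟩ }
  let z₀ : PrimeSpectrum Γ(Y, U) := ⟨⊥, Ideal.isPrime_bot⟩
  have hz : hU.fromSpec z₀ ∈ U := by rw [← SetLike.mem_coe, ← hU.range_fromSpec]; exact ⟨z₀, rfl⟩
  rw [π.isLocallyConstant_finrank.apply_eq_of_isPreconnected isPreconnected_univ (Set.mem_univ y)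
      (Set.mem_univ (hU.fromSpec z₀)), H22Alg.FiniteDegree.finrank_eq_rankAtStalk π hU ⟨_, hz⟩,
    show hU.primeIdealOf ⟨hU.fromSpec z₀, hz⟩ = z₀ from
      hU.fromSpec.isOpenEmbedding.injective (hU.fromSpec_primeIdealOf _)]
  have hle : z₀.asIdeal.primeCompl ≤ nonZeroDivisors Γ(Y, U) := z₀.asIdeal.primeCompl_le_nonZeroDivisors
  rw [Module.rankAtStalk, IsLocalization.finrank_eq (Localization.AtPrime z₀.asIdeal) z₀.asIdeal.primeCompl hle,
    IsLocalizedModule.finrank_eq z₀.asIdeal.primeCompl (LocalizedModule.mkLinearMap z₀.asIdeal.primeCompl _) hle]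
  exact (IsGaloisGroup.card_eq_finrank' G Γ(Y, U) Γ(X, π ⁻¹ᵁ U)).symm

end Groth.Agent.H29DoubleCover
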