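import Groth.Agent.H29DoubleCover.Pencil
import Groth.Agent.S7826
import Groth.Agent.H28Neron.NormalSmooth
import Groth.Agent.H29CurveDual.EtaleP1
import Groth.Agent.H17.OmegaAffine
import Groth.Agent.H28Int.Push
import Groth.Agent.S4642
import Mathlib.FieldTheory.Perfect

/-!
# An inseparable double cover of the line has genus zero
-/

set_option autoImplicit false
set_option linter.style.haveILetI false

universe u

open CategoryTheory CategoryTheory.Limits AlgebraicGeometry TopologicalSpace Polynomial
open Groth.Agent.H29RR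

namespace Groth.Agent.H29DoubleCover

attribute [local instance 10000] H10Coh.hasSheafifyAb H10Coh.hasWeakSheafifyAb H10Coh.hasExtAb H10Coh.enoughInjAb

/-- In an inseparable quadratic extension all squares lie in the smaller field. -/
theorem sq_mem_of_inseparable {F K : Type*} [Field F] [Field K] [Algebra F K] (h2 : Module.finrank F K = 2)
    (hs : ¬ Algebra.IsSeparable F K) : (2 : F) = 0 ∧ ∀ y : K, ∃ z : F, algebraMap F K z = y ^ 2 := by
  haveI : FiniteDimensional F K := Module.finite_of_finrank_pos (by omega)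
  obtain ⟨x, hx⟩ : ∃ x : K, ¬ IsSeparable F x := by
    by_contra! hc
    exact hs ⟨hc⟩
  have hint : IsIntegral F x := IsIntegral.of_finite F x
  have hirr := minpoly.irreducible hint
  have hd0 : derivative (minpoly F x) = 0 := not_not.1 fun h => hx ((separable_iff_derivative_ne_zero hirr).2 h)
  have hdeg : (minpoly F x).natDegree = 2 := by
    have hle : (minpoly F x).natDegree ≤ 2 := h2 ▸ minpoly.natDegree_le x
    have hpos := minpoly.natDegree_pos hint
    have hne : (minpoly F x).natDegree ≠ 1 := fun h1 => by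
      have := congrArg (fun q : F[X] => q.coeff 0) hd0
      simp only [coeff_derivative, coeff_zero, zero_add, Nat.cast_zero, mul_one] at this
      rw [show (1 : ℕ) = (minpoly F x).natDegree from h1.symm, (minpoly.monic hint).coeff_natDegree] at this
      exact one_ne_zero this
    omega
  have hlead : (minpoly F x).coeff 2 = 1 := by
    rw [← hdeg]; exact (minpoly.monic hint).coeff_natDegree
  have htwo : (2 : F) = 0 := by
    have := congrArg (fun q : F[X] => q.coeff 1) hd0
    simp only [coeff_derivative, coeff_zero, hlead, one_mul] at this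
    norm_num at this
    exact this
  have hc1 : (minpoly F x).coeff 1 = 0 := by
    have := congrArg (fun q : F[X] => q.coeff 0) hd0
    simpa [coeff_derivative] using this
  have hx2 : ∃ z : F, algebraMap F K z = x ^ 2 := by
    have h := minpoly.aeval F x
    rw [aeval_eq_sum_range, hdeg, Finset.sum_range_succ, Finset.sum_range_succ, Finset.sum_range_one, hlead, hc1,
      pow_zero, zero_smul, add_zero, one_smul, Algebra.smul_def, mul_one] at h
    exact ⟨-(minpoly F x).coeff 0, by rw [map_neg, neg_eq_iff_eq_neg]; exact eq_neg_of_add_eq_zero_left h⟩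
  refine ⟨htwo, fun y => ?_⟩
  have hind : LinearIndependent F ![1, x] := LinearIndependent.pair_iff.2 fun a b hab => by
    have hb : b = 0 := by
      by_contra hb
      have hmem : x ∈ (algebraMap F K).range := ⟨-a / b, by
        rw [Algebra.smul_def, Algebra.smul_def, mul_one] at hab
        rw [map_div₀, map_neg, div_eq_iff (by rwa [Ne, map_eq_zero_iff _ (algebraMap F K).injective])]
        linear_combination -hab⟩
      have h1 := (minpoly.natDegree_eq_one_iff).2 hmem
      omega
    refine ⟨?_, hb⟩
    rw [hb, zero_smul, add_zero, Algebra.smul_def, mul_one, map_eq_zero_iff _ (algebraMap F K).injective] at hab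
    exact hab
  have hspan := hind.span_eq_top_of_card_eq_finrank (by rw [h2]; rfl)
  have hy : y ∈ Submodule.span F (Set.range ![(1 : K), x]) := hspan ▸ Submodule.mem_top
  rw [Matrix.range_cons, Matrix.range_cons, Matrix.range_empty, Set.union_empty, Set.singleton_union] at hy
  obtain ⟨a, b, rfl⟩ := Submodule.mem_span_pair.1 hy
  obtain ⟨z, hz⟩ := hx2
  refine ⟨a ^ 2 + b ^ 2 * z, ?_⟩
  have htwoK : (2 : K) = 0 := by rw [← map_ofNat (algebraMap F K) 2, htwo, map_zero]
  rw [map_add, map_mul, map_pow, map_pow, hz, Algebra.smul_def, Algebra.smul_def]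
  linear_combination -(algebraMap F K a * algebraMap F K b * x) * htwoK

/-- An element of the function field integral over the sections on an affine open of a normal scheme is one of them. -/
theorem exists_germ_eq_of_integral {P : Scheme.{u}} [IsIntegral P] {U : P.Opens} (hU : IsAffineOpen U) {q : P}
    (hqU : q ∈ U) (hq : q = genericPoint P) [IsIntegrallyClosed Γ(P, U)] (y : P.presheaf.stalk q)
    (hy : (P.presheaf.germ U q hqU).hom.IsIntegralElem y) : ∃ a, P.presheaf.germ U q hqU a = y := by
  subst hq
  haveI : Nonempty U := ⟨⟨_, hqU⟩⟩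
  haveI := functionField_isFractionRing_of_isAffineOpen P U hU
  obtain ⟨a, ha⟩ := IsIntegrallyClosed.isIntegral_iff.1 (show _root_.IsIntegral Γ(P, U) (show P.functionField from y) from hy)
  exact ⟨a, ha⟩

theorem isNormalScheme_spec_field (k : Type u) [Field k] : Pi1.IsNormalScheme (Spec (CommRingCat.of k)) := fun x => by
  have h := H8Props.FibreStalk.isField_stalk_Spec (CommRingCat.of k) (Field.toIsField k) x
  exact ⟨h.isDomain, letI := h.toField; inferInstance⟩

/-- Isomorphisms preserve the genus. -/
theorem genus_congr {k : Type u} [Field k] {X Y : Scheme.{u}} [X.Over (Spec (CommRingCat.of k))]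
    [Y.Over (Spec (CommRingCat.of k))] (e : X ≅ Y)
    (he : e.hom ≫ (Y ↘ Spec (CommRingCat.of k)) = X ↘ Spec (CommRingCat.of k)) :
    Curv2.genus k X = Curv2.genus k Y := by
  haveI : (Coh.structureModule Y).IsQuasicoherent := H10Coh.isQuasicoherent_unit
  obtain ⟨eO⟩ := H11Ample.nonempty_pullback_structureModule_iso e.hom
  exact ((H29RR.hhIso (k := k) (eO.symm ≪≫ (H17.OmegaAffine.pullbackIso e).app (Coh.structureModule Y)) 1).finrank_eq).trans
    (H28Int.Push.finrank_HH_push k e.inv (by rw [← he, Iso.inv_hom_id_assoc]) _ 1)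

theorem genus_projLine (k : Type u) [Field k] :
    letI := H29RR.PnPic.overSpec 1 k
    Curv2.genus k (CohB1.ProjSpace 1 k) = 0 := by
  letI := H29RR.PnPic.overSpec 1 k
  obtain ⟨u0⟩ := (H10Coh.Stab.isTwistFamily_projSpace 1 k).zero
  haveI : Subsingleton (Coh.HH (CohB1.ProjSpace 1 k) (Twist.twistProjSpace 1 k 0) 1) :=
    H10Coh.Pn.subsingleton_HH_Od 1 (by omega) (by omega)
  rw [Curv2.genus, ← (H29RR.hhIso (k := k) u0 1).finrank_eq, Module.finrank_zero_of_subsingleton]

variable {k : Type u} [Field k] {X : Scheme.{u}} [X.Over (Spec (CommRingCat.of k))]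
  [IsProper (X ↘ Spec (CommRingCat.of k))] [IsIntegral X]

/-- An inseparable double cover of the line has genus zero. -/
theorem genus_eq_zero_of_inseparable [Smooth (X ↘ Spec (CommRingCat.of k))]
    [GeometricallyConnected (X ↘ Spec (CommRingCat.of k))] (hdim : topologicalKrullDim X = 1)
    (f : X ⟶ CohB1.ProjSpace 1 k) [IsFinite f]
    (hf : f ≫ CohB1.ProjSpace.toSpec 1 k = X ↘ Spec (CommRingCat.of k))
    (hη : f (genericPoint X) = genericPoint (CohB1.ProjSpace 1 k))
    (h2 : f.residueDegree (genericPoint X) = 2)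
    (hs : letI := (f.residueFieldMap (genericPoint X)).hom.toAlgebra
      ¬ Algebra.IsSeparable ((CohB1.ProjSpace 1 k).residueField (f (genericPoint X))) (X.residueField (genericPoint X))) :
    Curv2.genus k X = 0 := by
  classical
  let η := genericPoint X
  let P := CohB1.ProjSpace 1 k
  let j := H17.RatCurve.lineChart k
  have hsq : ((2 : P.residueField (f η)) = 0) ∧
      ∀ y : X.residueField η, ∃ z, f.residueFieldMap η z = y ^ 2 := by
    letI := (f.residueFieldMap η).hom.toAlgebra
    exact sq_mem_of_inseparable h2 hs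
  -- the affine line in the target
  let U : P.Opens := j.opensRange
  have hU : IsAffineOpen U := isAffineOpen_opensRange j
  let l := IsOpenImmersion.lift j hU.fromSpec (by rw [hU.range_fromSpec]; rfl)
  have hl : l ≫ j = hU.fromSpec := IsOpenImmersion.lift_fac _ _ _
  haveI : IsIso l := by
    haveI : IsOpenImmersion (l ≫ j) := by rw [hl]; infer_instance
    haveI : IsOpenImmersion l := IsOpenImmersion.of_comp l j
    haveI : Surjective l := ⟨fun z => by
      obtain ⟨w, hw⟩ : j z ∈ Set.range hU.fromSpec := by rw [hU.range_fromSpec]; exact ⟨z, rfl⟩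
      refine ⟨w, j.isOpenEmbedding.injective ?_⟩
      rw [← Scheme.Hom.comp_apply, hl, hw]⟩
    exact (isIso_iff_isOpenImmersion_and_surjective l).2 ⟨inferInstance, inferInstance⟩
  let e : CommRingCat.of k[X] ⟶ Γ(P, U) := Spec.preimage l
  have he : Spec.map e = l := Spec.map_preimage l
  haveI : IsIso e := ⟨⟨Spec.preimage (inv l), Spec.map_injective (by simp [he]), Spec.map_injective (by simp [he])⟩⟩
  have hebij : Function.Bijective e.hom := ConcreteCategory.bijective_of_isIso e
  haveI : IsIntegrallyClosed Γ(P, U) := IsIntegrallyClosed.of_equiv (RingEquiv.ofBijective e.hom hebij)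
  have hηU : f η ∈ U := by
    show f (genericPoint X) ∈ U
    rw [hη]
    refine ((genericPoint_spec P).mem_open_set_iff U.2).2 ⟨j (Nonempty.some inferInstance), trivial, ?_⟩
    exact ⟨_, rfl⟩
  let V : X.Opens := f ⁻¹ᵁ U
  have hV : IsAffineOpen V := hU.preimage f
  haveI : Nonempty V := ⟨⟨η, hηU⟩⟩
  let φ : k[X] →+* Γ(X, V) := (f.app U).hom.comp e.hom
  let germX := (X.presheaf.germ V η hηU).hom
  have hgX : Function.Injective germX := X.germToFunctionField_injective V
  have hstalk : ∀ a, (f.stalkMap η).hom (P.presheaf.germ U (f η) hηU a) = germX ((f.app U).hom a) := fun a =>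
    Scheme.Hom.germ_stalkMap_apply f U η hηU a
  have hfield : IsField (P.presheaf.stalk (f η)) := by
    show IsField (P.presheaf.stalk (f (genericPoint X)))
    rw [hη]
    exact Field.toIsField P.functionField
  have hsinj : Function.Injective (f.stalkMap η).hom := by
    letI := hfield.toField
    exact (f.stalkMap η).hom.injective
  have hginj : Function.Injective (P.presheaf.germ U (f η) hηU).hom := germ_injective_of_isIntegral P (f η) hηU
  have hφinj : Function.Injective φ := fun a b hab => hebij.1 (hginj (hsinj (by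
    rw [hstalk, hstalk]; exact congrArg germX hab)))
  have htwo : (2 : k) = 0 := by
    by_contra hk
    refine two_ne_zero' (α := ℕ) ?_
    have h1 : (P.residue (f η)).hom ((P.presheaf.germ U (f η) hηU).hom (e.hom (C (2 : k)))) = 2 := by
      rw [map_ofNat, map_ofNat, map_ofNat, map_ofNat]
    have h3 : IsUnit (2 : k[X]) := by
      rw [← map_ofNat (C : k →+* k[X]) 2]; exact (isUnit_iff_ne_zero.2 hk).map C
    have h4 : IsUnit (2 : P.residueField (f η)) := by
      rw [← h1, map_ofNat C 2]
      exact ((h3.map e.hom).map (P.presheaf.germ U (f η) hηU).hom).map (P.residue (f η)).hom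
    exact absurd hsq.1 h4.ne_zero
  haveI : CharP k 2 := CharTwo.of_one_ne_zero_of_two_eq_zero one_ne_zero htwo
  haveI : CharP k[X] 2 := inferInstance
  haveI : Nontrivial Γ(X, V) := X.component_nontrivial V
  haveI : CharP Γ(X, V) 2 := CharTwo.of_one_ne_zero_of_two_eq_zero one_ne_zero (by
    rw [← map_ofNat φ 2, CharTwo.two_eq_zero, map_zero])
  -- squares of sections are functions on the line
  have hex : ∀ b : Γ(X, V), ∃ a : k[X], φ a = b ^ 2 := fun b => by
    obtain ⟨z, hz⟩ := hsq.2 (X.residue η (germX b))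
    obtain ⟨y, rfl⟩ := P.residue_surjective (f η) z
    have hy : (f.stalkMap η).hom y = germX (b ^ 2) := by
      refine (H29CurveDual.bijective_residue_genericPoint (rfl : η = genericPoint X)).1 ?_
      refine ((congr($(Scheme.residue_residueFieldMap f η) y)).symm.trans hz).trans ?_
      rw [map_pow, map_pow]
    obtain ⟨Q, hQ, hQ0⟩ : (f.app U).hom.IsIntegralElem (b ^ 2) :=
      RingHom.IsIntegral.of_finite (IsFinite.finite_app f U hU) (b ^ 2)
    have hyint : (P.presheaf.germ U (f η) hηU).hom.IsIntegralElem y := by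
      refine ⟨Q, hQ, hsinj ?_⟩
      rw [map_zero, Polynomial.hom_eval₂, hy,
        show (f.stalkMap η).hom.comp (P.presheaf.germ U (f η) hηU).hom = germX.comp (f.app U).hom from RingHom.ext hstalk,
        ← Polynomial.hom_eval₂, hQ0, map_zero]
    obtain ⟨a, ha⟩ := exists_germ_eq_of_integral hU hηU hη y hyint
    obtain ⟨a', rfl⟩ := hebij.2 a
    exact ⟨a', hgX (by rw [← hy, ← ha, hstalk]; rfl)⟩
  choose sq hsq' using hex
  let sqHom : Γ(X, V) →+* k[X] :=
    { toFun := sq
      map_one' := hφinj (by rw [hsq', map_one, one_pow])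
      map_mul' := fun a b => hφinj (by rw [map_mul, hsq', hsq', hsq', mul_pow])
      map_zero' := hφinj (by rw [hsq', map_zero]; simp)
      map_add' := fun a b => hφinj (by rw [map_add, hsq', hsq', hsq', CharTwo.add_sq]) }
  -- the untwisted morphism over an algebraic closure
  let K := AlgebraicClosure k
  haveI : CharP K 2 := charP_of_injective_algebraMap (algebraMap k K).injective 2
  haveI : Fact (Nat.Prime 2) := ⟨Nat.prime_two⟩
  haveI : PerfectRing K 2 := PerfectField.toPerfectRing 2
  let rt : k →+* K := (frobeniusEquiv K 2).symm.toRingHom.comp (algebraMap k K)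
  let Ψ : Γ(X, V) →+* K[X] := (mapRingHom rt).comp sqHom
  have hΨφ : ∀ a, Ψ (φ a) = (a.map rt) ^ 2 := fun a => by
    show (sq (φ a)).map rt = _
    rw [show sq (φ a) = a ^ 2 from hφinj (by rw [hsq', map_pow]), Polynomial.map_pow]
  have hΨC : (Ψ.comp φ).comp (C : k →+* k[X]) = (C : K →+* K[X]).comp (algebraMap k K) := RingHom.ext fun c => by
    show Ψ (φ (C c)) = C (algebraMap k K c)
    rw [hΨφ, map_C, ← C_pow]
    exact congrArg C (frobeniusEquiv_symm_pow_p K 2 (algebraMap k K c))
  let g : Spec (CommRingCat.of K[X]) ⟶ X := Spec.map (CommRingCat.ofHom Ψ) ≫ hV.fromSpec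
  have hgf : g ≫ f = Spec.map (CommRingCat.ofHom (Ψ.comp φ)) ≫ j := by
    have h1 : hV.fromSpec ≫ f = Spec.map (f.app U) ≫ hU.fromSpec := by
      rw [← IsAffineOpen.SpecMap_appLE_fromSpec f hU hV le_rfl, Scheme.Hom.appLE_eq_app]
    show (Spec.map _ ≫ hV.fromSpec) ≫ f = _
    rw [Category.assoc, h1, ← hl, ← he, ← Spec.map_comp_assoc, ← Spec.map_comp_assoc]
    rfl
  let p := X ↘ Spec (CommRingCat.of k)
  let b := Spec.map (CommRingCat.ofHom (algebraMap k K))
  have hgp : g ≫ p = Spec.map (CommRingCat.ofHom (C : K →+* K[X])) ≫ b := by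
    show g ≫ (X ↘ Spec (CommRingCat.of k)) = _
    rw [← hf, ← Category.assoc, hgf, Category.assoc, H17.RatCurve.lineChart_toSpec, ← Spec.map_comp, ← Spec.map_comp,
      ← CommRingCat.ofHom_comp, ← CommRingCat.ofHom_comp, ← hΨC]
  let Z := pullback p b
  letI : Z.Over (Spec (CommRingCat.of K)) := ⟨pullback.snd p b⟩
  have hsqZ : IsPullback (pullback.fst p b) (Z ↘ Spec (CommRingCat.of K)) p b := IsPullback.of_hasPullback p b
  haveI : IsProper (Z ↘ Spec (CommRingCat.of K)) := MorphismProperty.of_isPullback hsqZ inferInstance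
  haveI : Smooth (Z ↘ Spec (CommRingCat.of K)) := MorphismProperty.of_isPullback hsqZ inferInstance
  haveI : GeometricallyConnected (Z ↘ Spec (CommRingCat.of K)) := MorphismProperty.of_isPullback hsqZ inferInstance
  haveI : ConnectedSpace Z := GeometricallyConnected.connectedSpace_of_subsingleton (Z ↘ Spec (CommRingCat.of K))
  haveI : IsLocallyNoetherian (Spec (CommRingCat.of K)) := inferInstance
  have hdZ : topologicalKrullDim Z = 1 := (Groth.Agent.S4642.result (K := K) p).trans hdim
  -- the lift and its extension to the line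
  let jK := H17.RatCurve.lineChart K
  let g' : Spec (CommRingCat.of K[X]) ⟶ Z := pullback.lift g (Spec.map (CommRingCat.ofHom C)) hgp
  haveI : Nonempty jK.opensRange := ⟨⟨_, (Nonempty.some (inferInstance : Nonempty (Spec (CommRingCat.of K[X])))), rfl⟩⟩
  obtain ⟨G, hG, hGres⟩ := H17.RatCurve.exists_extension K (Z ↘ Spec (CommRingCat.of K)) jK.opensRange
    (jK.isoOpensRange.inv ≫ g') (by
      rw [Category.assoc, show g' ≫ (Z ↘ Spec (CommRingCat.of K)) = _ from pullback.lift_snd _ _ _,
        ← Scheme.Hom.isoOpensRange_inv_comp jK, Category.assoc, H17.RatCurve.lineChart_toSpec]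
      all_goals rfl)
  have hnc : ∃ a c : ↥(CohB1.ProjSpace 1 K), G.base a ≠ G.base c := by
    let z₀ : Spec (CommRingCat.of K[X]) := (⟨⊥, Ideal.isPrime_bot⟩ : PrimeSpectrum K[X])
    let z₁ : Spec (CommRingCat.of K[X]) := (⟨Ideal.span {Polynomial.X}, (Ideal.span_singleton_prime Polynomial.X_ne_zero).2 Polynomial.prime_X⟩ : PrimeSpectrum K[X])
    refine ⟨jK z₀, jK z₁, fun h => ?_⟩
    have hG' : ∀ z, G (jK z) = g' z := fun z => by
      rw [← Scheme.Hom.comp_apply, ← Scheme.Hom.isoOpensRange_hom_ι jK, Category.assoc, hGres, Iso.hom_inv_id_assoc]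
    change G (jK z₀) = G (jK z₁) at h
    rw [hG', hG'] at h
    have h1 := congrArg (pullback.fst p b) h
    rw [← Scheme.Hom.comp_apply, ← Scheme.Hom.comp_apply, pullback.lift_fst] at h1
    have h2 := congrArg f h1
    rw [← Scheme.Hom.comp_apply, ← Scheme.Hom.comp_apply, hgf, Scheme.Hom.comp_apply, Scheme.Hom.comp_apply] at h2
    have h3 : PrimeSpectrum.comap (Ψ.comp φ) z₀ = PrimeSpectrum.comap (Ψ.comp φ) z₁ := j.isOpenEmbedding.injective h2
    have h4 : (Polynomial.X : k[X]) ∈ (PrimeSpectrum.comap (Ψ.comp φ) z₁).asIdeal := by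
      show Ψ (φ Polynomial.X) ∈ Ideal.span {(Polynomial.X : K[X])}
      rw [hΨφ, Polynomial.map_X, pow_two]
      exact Ideal.mul_mem_left _ _ (Ideal.mem_span_singleton_self Polynomial.X)
    rw [← h3] at h4
    have h5 : Ψ (φ Polynomial.X) = 0 := h4
    rw [hΨφ, Polynomial.map_X] at h5
    exact Polynomial.X_ne_zero (pow_eq_zero_iff two_ne_zero |>.1 h5)
  obtain ⟨i, hi⟩ := Groth.Agent.S7826.result K (Z ↘ Spec (CommRingCat.of K))
    (H28Neron.isNormalScheme_of_smooth (Z ↘ Spec (CommRingCat.of K)) (isNormalScheme_spec_field K)) hdZ G hG hnc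
  letI := H29RR.PnPic.overSpec 1 K
  have hgenus : Curv2.genus K Z = Curv2.genus k X := by
    rw [Curv2.genus, Curv2.genus,
      ← (hhIso (k := K) (H16Derived.KFlat.Stalk.structurePullbackIso (pullback.fst p b)) 1).finrank_eq,
      H28Int.FieldExt.finrank_HH_bc K hsqZ (H10Coh.isCoh_structureModule' X) 1]
  rw [← hgenus, genus_congr i hi, genus_projLine]

end Groth.Agent.H29DoubleCover
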