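import Groth.Agent.H22Alg.FiniteDegree
import Groth.Agent.H25Par.StalkProd
import Groth.Agent.H27FibreRank.Regular
import Groth.Agent.H29Curve.SmoothStalk
import Groth.Agent.H29CurveDual.Hurwitz
import Groth.Agent.H29DoubleCover.Hyperelliptic
import Groth.Agent.H29DoubleCover.Separable
import Groth.Agent.H29Omega.SheafFinite
import Groth.Agent.H29RR.GenPoint

/-!
# Ramification of double covers of curves away from characteristic two
-/

set_option autoImplicit false
set_option linter.style.haveILetI false

universe u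

open CategoryTheory CategoryTheory.Limits AlgebraicGeometry TopologicalSpace
open IsLocalRing

namespace Groth.Agent.H29DoubleCover

/-- The differentials of a tame ramified extension of degree two are killed by a uniformiser. -/
theorem kaehler_ramified (k A B : Type u) [Field k] [CommRing A] [CommRing B] [Algebra k A] [Algebra k B]
    [Algebra A B] [IsScalarTower k A B] [IsLocalRing B] {z : B} (hz : maximalIdeal B = Ideal.span {z})
    (hgen : Function.Surjective fun a : B => a • KaehlerDifferential.D k B z) {t : A} {u : B} (hu : IsUnit u)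
    (ht : algebraMap A B t = u * z ^ 2) (h2 : IsUnit (2 : B)) :
    (∀ w : Ω[B⁄A], ∃ b : B, w = b • KaehlerDifferential.D A B z) ∧
      ∀ b ∈ maximalIdeal B, b • KaehlerDifferential.D A B z = 0 := by
  set v := KaehlerDifferential.D A B z
  have hgen' : ∀ w : Ω[B⁄A], ∃ b : B, w = b • v := fun w => by
    obtain ⟨w₀, rfl⟩ := KaehlerDifferential.map_surjective k A B w
    obtain ⟨b, rfl⟩ := hgen w₀
    exact ⟨b, by rw [map_smul, KaehlerDifferential.map_D]; rfl⟩
  obtain ⟨c, hc⟩ := hgen' (KaehlerDifferential.D A B u)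
  have h0 : (z * (2 * u + z * c)) • v = 0 := by
    have h := (KaehlerDifferential.D A B).map_algebraMap t
    rw [ht, Derivation.leibniz, Derivation.leibniz_pow, hc] at h
    simp only [smul_smul, ← Nat.cast_smul_eq_nsmul B, ← add_smul, pow_one, Nat.cast_ofNat,
      show (2 - 1 : ℕ) = 1 from rfl] at h
    rw [← h, show z * (2 * u + z * c) = u * (2 * z) + z ^ 2 * c by ring, add_smul]
  have hzv : z • v = 0 := by
    have hw : IsUnit (2 * u + z * c) := by
      by_contra hn
      have h2u : 2 * u ∈ maximalIdeal B := by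
        have h1 : 2 * u + z * c ∈ maximalIdeal B := (mem_maximalIdeal _).2 hn
        have h3 : z * c ∈ maximalIdeal B := Ideal.mul_mem_right _ _ (hz ▸ Ideal.mem_span_singleton_self z)
        simpa using Ideal.sub_mem _ h1 h3
      exact (mem_maximalIdeal _).1 h2u (h2.mul hu)
    rw [mul_comm, mul_smul] at h0
    exact hw.smul_eq_zero.1 h0
  refine ⟨hgen', fun b hb => ?_⟩
  rw [hz, Ideal.mem_span_singleton'] at hb
  obtain ⟨a, rfl⟩ := hb
  rw [mul_smul, hzv, smul_zero]

attribute [local instance] Curv2.stalkAlgebra Curv2.resAlgebra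
attribute [local instance 10000] H10Coh.hasSheafifyAb H10Coh.hasWeakSheafifyAb H10Coh.hasExtAb H10Coh.enoughInjAb

variable {k : Type u} [Field k] {X Y : Scheme.{u}} [X.Over (Spec (CommRingCat.of k))]
  [Y.Over (Spec (CommRingCat.of k))] (f : X ⟶ Y)

theorem stalkMap_const (hf : f ≫ (Y ↘ Spec (CommRingCat.of k)) = X ↘ Spec (CommRingCat.of k)) (x : X) (c : k) :
    f.stalkMap x (algebraMap k (Y.presheaf.stalk (f x)) c) = algebraMap k (X.presheaf.stalk x) c := by
  show f.stalkMap x (Y.presheaf.germ ⊤ (f x) trivial ((Y ↘ Spec (CommRingCat.of k)).appTop _)) =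
    X.presheaf.germ ⊤ x trivial ((X ↘ Spec (CommRingCat.of k)).appTop _)
  rw [Scheme.Hom.germ_stalkMap_apply]
  refine congrArg (X.presheaf.germ ⊤ x trivial) ?_
  rw [← hf, Scheme.Hom.comp_appTop]
  rfl

variable [IsAlgClosed k] [IsIntegral X] [IsProper (X ↘ Spec (CommRingCat.of k))]
  [Smooth (X ↘ Spec (CommRingCat.of k))]

/-- The local rings at the closed points of a smooth curve over an algebraically closed field. -/
theorem closedPoint_facts (hX : topologicalKrullDim X = 1) {x : X} (hx : IsClosed ({x} : Set X)) :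
    IsDiscreteValuationRing (X.presheaf.stalk x) ∧ Algebra.EssFiniteType k (X.presheaf.stalk x) ∧
      (∀ b : X.presheaf.stalk x, ∃ c : k, b - algebraMap k _ c ∈ maximalIdeal (X.presheaf.stalk x)) ∧
      ∃ z : X.presheaf.stalk x, Irreducible z ∧
        Function.Surjective fun a : X.presheaf.stalk x => a • KaehlerDifferential.D k (X.presheaf.stalk x) z := by
  haveI := H29RR.isNoetherian_of_proper (k := k) (X := X)
  haveI := regular_of_smooth (k := k) x
  have hnf : ¬ IsField (X.presheaf.stalk x) := by
    intro hF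
    letI := hF.toField
    have hη : genericPoint X ∈ Set.range (X.fromSpecStalk x) := by
      rw [Scheme.range_fromSpecStalk]
      exact (genericPoint_spec X).specializes (Set.mem_univ x)
    obtain ⟨a, ha⟩ := hη
    rw [show a = closedPoint (X.presheaf.stalk x) from Subsingleton.elim (α := PrimeSpectrum (X.presheaf.stalk x)) _ _,
      Scheme.fromSpecStalk_closedPoint] at ha
    have huniv : ({x} : Set X) = Set.univ :=
      Set.eq_univ_of_univ_subset ((genericPoint_spec X).def.ge.trans
        (closure_minimal (Set.singleton_subset_iff.2 ha.symm) hx))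
    haveI : Subsingleton X := ⟨fun a b =>
      ((Set.eq_univ_iff_forall.1 huniv a).trans (Set.eq_univ_iff_forall.1 huniv b).symm : _)⟩
    haveI : DiscreteTopology X := inferInstance
    have h0 : topologicalKrullDim X ≤ 0 := topologicalKrullDim_zero_of_discreteTopology X
    rw [hX] at h0
    exact absurd h0 (by norm_num)
  have hd : ringKrullDim (X.presheaf.stalk x) ≤ 1 := (H8Props.FlatDimOneBase.ringKrullDim_stalk_le X x).trans hX.le
  haveI : Ring.KrullDimLE 1 (X.presheaf.stalk x) := Ring.krullDimLE_iff.2 hd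
  haveI : Ring.DimensionLEOne (X.presheaf.stalk x) :=
    ⟨fun hp hprime => Ring.krullDimLE_one_iff_of_noZeroDivisors.mp ‹_› _ hp hprime⟩
  haveI : IsIntegrallyClosed (X.presheaf.stalk x) :=
    (H28Neron.isNormalScheme_of_smooth (X ↘ Spec (CommRingCat.of k)) (isNormalScheme_spec_field k) x).2
  haveI : IsDedekindDomain (X.presheaf.stalk x) := { }
  have hdvr : IsDiscreteValuationRing (X.presheaf.stalk x) :=
    ((IsDiscreteValuationRing.TFAE (X.presheaf.stalk x) hnf).out 2 0 :
      IsDedekindDomain (X.presheaf.stalk x) ↔ IsDiscreteValuationRing (X.presheaf.stalk x)).mp inferInstance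
  haveI := hdvr
  have h1 := H29RR.finrank_residue_eq_one (k := k) hx
  have hres : ∀ b : X.presheaf.stalk x, ∃ c : k, b - algebraMap k _ c ∈ maximalIdeal (X.presheaf.stalk x) := by
    intro b
    obtain ⟨c, hc⟩ := exists_smul_eq_of_finrank_eq_one h1 (one_ne_zero (α := X.residueField x)) (X.residue x b)
    refine ⟨c, ?_⟩
    rw [← residue_eq_zero_iff]
    show X.residue x (b - algebraMap k _ c) = 0
    rw [map_sub, ← hc, Algebra.smul_def, mul_one, sub_eq_zero]
    rfl
  haveI := H27CurveDiv.smoothOfRelativeDimension_of_dim (X ↘ Spec (CommRingCat.of k)) 1 hX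
  obtain ⟨hfs, heft, hfree, hrk⟩ := H29Curve.stalk_of_smooth k X x 1 ⊤ trivial
    (show SmoothOfRelativeDimension 1 ((⊤ : X.Opens).ι ≫ (X ↘ Spec (CommRingCat.of k))) from
      (inferInstance : SmoothOfRelativeDimension (0 + 1) _))
  haveI := hfs
  haveI := heft
  haveI := hfree
  haveI : Module.Finite k (X.residueField x) := Module.finite_of_finrank_pos (by omega)
  haveI : Algebra.IsSeparable k (ResidueField (X.presheaf.stalk x)) :=
    inferInstanceAs (Algebra.IsSeparable k (X.residueField x))
  obtain ⟨z, hz⟩ := IsDiscreteValuationRing.exists_irreducible (X.presheaf.stalk x)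
  exact ⟨hdvr, heft, hres, z, hz, (H29Curve.bijective_smul_D_of_rank_one k _ hrk hz).2.2⟩

variable [IsIntegral Y] [IsProper (Y ↘ Spec (CommRingCat.of k))] [Smooth (Y ↘ Spec (CommRingCat.of k))]
  [IsFinite f] [Flat f]

omit [IsFinite f] [Flat f] in
include k in
/-- The order of the image of a uniformiser. -/
theorem exists_mult (hX : topologicalKrullDim X = 1) (hY : topologicalKrullDim Y = 1)
    (hη : f (genericPoint X) = genericPoint Y) {x : X} (hx : IsClosed ({x} : Set X))
    (hy : IsClosed ({f x} : Set Y)) {z : X.presheaf.stalk x} (hz : Irreducible z)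
    {z' : Y.presheaf.stalk (f x)} (hz' : Irreducible z') :
    ∃ (n : ℕ) (u : (X.presheaf.stalk x)ˣ), (f.stalkMap x) z' = u * z ^ n ∧ 1 ≤ n ∧
      H22Alg.FiniteDegree.mult f x = n := by
  obtain ⟨hB, -, -, -⟩ := closedPoint_facts (k := k) hX hx
  obtain ⟨hA, -, -, -⟩ := closedPoint_facts (k := k) hY hy
  haveI := hB
  haveI := hA
  have h0 : (f.stalkMap x) z' ≠ 0 := fun h => hz'.ne_zero
    (H29Curve.stalkMap_injective_of_dominant f hη x (h.trans (map_zero _).symm))
  obtain ⟨n, u, hu⟩ := IsDiscreteValuationRing.eq_unit_mul_pow_irreducible h0 hz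
  refine ⟨n, u, hu, Nat.one_le_iff_ne_zero.2 fun h => ?_, ?_⟩
  · rw [h, pow_zero, mul_one] at hu
    exact hz'.not_isUnit (isUnit_of_map_unit (f.stalkMap x).hom z' (hu ▸ u.isUnit))
  · show (Module.length (X.presheaf.stalk x) (X.presheaf.stalk x ⧸
      (maximalIdeal (Y.presheaf.stalk (f x))).map (f.stalkMap x).hom)).toNat = n
    rw [hz'.maximalIdeal_eq, Ideal.map_span, Set.image_singleton]
    show (Ring.ord (X.presheaf.stalk x) ((f.stalkMap x) z')).toNat = n
    have h1 : Ring.ord (X.presheaf.stalk x) z = 1 := by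
      rw [Ring.ord, ← hz.maximalIdeal_eq, Module.length_eq_one_iff, isSimpleModule_iff_isCoatom,
        ← Ideal.isMaximal_def]
      infer_instance
    rw [hu, Ring.ord_mul_of_isUnit_left u.isUnit, Ring.ord_pow (mem_nonZeroDivisors_of_ne_zero hz.ne_zero), h1,
      nsmul_one, ENat.toNat_natCast]

/-- A closed point of a double cover is unramified or is alone in its fibre, where the differentials are a line. -/
theorem stalk_omega_double (h2 : (2 : k) ≠ 0) (hX : topologicalKrullDim X = 1) (hY : topologicalKrullDim Y = 1)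
    (hf : f ≫ (Y ↘ Spec (CommRingCat.of k)) = X ↘ Spec (CommRingCat.of k)) (hr : ∀ y, f.finrank y = 2)
    {x : X} (hx : IsClosed ({x} : Set X)) :
    (f ⁻¹' {f x} ≠ {x} → Subsingleton ((Omega.sheaf f).presheaf.stalk x)) ∧
      (f ⁻¹' {f x} = {x} → Module.finrank k (H25Par.Stk k (Omega.sheaf f) x) = 1) := by
  classical
  have hy : IsClosed ({f x} : Set Y) := by rw [← Set.image_singleton]; exact f.isClosedMap _ hx
  obtain ⟨hB, hBft, hBres, z, hz, hzgen⟩ := closedPoint_facts (k := k) hX hx
  obtain ⟨hA, -, hAres, z', hz', -⟩ := closedPoint_facts (k := k) hY hy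
  haveI := hB
  haveI := hA
  let A := Y.presheaf.stalk (f x)
  let B := X.presheaf.stalk x
  letI : Algebra A B := (f.stalkMap x).hom.toAlgebra
  haveI : IsScalarTower k A B := IsScalarTower.of_algebraMap_eq fun c => (stalkMap_const f hf x c).symm
  haveI := hBft
  haveI : Algebra.EssFiniteType A B := Algebra.EssFiniteType.of_comp k A B
  haveI : IsLocalHom (algebraMap A B) := inferInstanceAs (IsLocalHom (f.stalkMap x).hom)
  have hmB : maximalIdeal B = Ideal.span {z} := hz.maximalIdeal_eq
  have hmA : (maximalIdeal A).map (algebraMap A B) = Ideal.span {algebraMap A B z'} := by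
    rw [hz'.maximalIdeal_eq, Ideal.map_span, Set.image_singleton]
  haveI := H29RR.isNoetherian_of_proper (k := k) (X := X)
  have hη : f (genericPoint X) = genericPoint Y := by
    haveI : JacobsonSpace X := LocallyOfFiniteType.jacobsonSpace (X ↘ Spec (CommRingCat.of k))
    obtain ⟨a, b, hab⟩ : ∃ a b : X, f a ≠ f b := exists_ne_of_isFinite hX f
    exact apply_genericPoint hY.le f ⟨a, b, hab⟩
  have hS : IsClosed (f ⁻¹' {f x}) := hy.preimage f.continuous
  have hgS : genericPoint X ∉ f ⁻¹' {f x} := fun h => by
    have h' : genericPoint Y = f x := hη.symm.trans h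
    have huniv : ({f x} : Set Y) = Set.univ := Set.eq_univ_of_univ_subset ((genericPoint_spec Y).def.ge.trans
      (closure_minimal (Set.singleton_subset_iff.2 h') hy))
    haveI : Subsingleton Y := ⟨fun a b =>
      ((Set.eq_univ_iff_forall.1 huniv a).trans (Set.eq_univ_iff_forall.1 huniv b).symm : _)⟩
    have h0 : topologicalKrullDim Y ≤ 0 := topologicalKrullDim_zero_of_discreteTopology Y
    rw [hY] at h0
    exact absurd h0 (by norm_num)
  obtain ⟨hfin, hclS⟩ := H25Par.finite_of_isClosed_of_notMem hX.le hS hgS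
  obtain ⟨n, u, hu, hn1', hmult⟩ := exists_mult (k := k) f hX hY hη hx hy hz hz'
  have hdeg : ∀ w, f w = f x → f.residueDegree w = 1 := by
    intro w hw
    have hwc : IsClosed ({w} : Set X) := hclS w hw
    letI := (f.residueFieldMap w).hom.toAlgebra
    refine Algebra.finrank_eq_one_iff_bijective_algebraMap.2 ⟨RingHom.injective _, fun b => ?_⟩
    obtain ⟨b, rfl⟩ := X.residue_surjective w b
    obtain ⟨-, -, hwres, -⟩ := closedPoint_facts (k := k) hX hwc
    obtain ⟨c, hc⟩ := hwres b
    refine ⟨Y.residue (f w) (algebraMap k _ c), ?_⟩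
    show f.residueFieldMap w (Y.residue (f w) _) = _
    rw [← ConcreteCategory.comp_apply, Scheme.residue_residueFieldMap, ConcreteCategory.comp_apply,
      stalkMap_const f hf w c]
    rw [← residue_eq_zero_iff, map_sub, sub_eq_zero] at hc
    exact hc.symm
  have hsum : ∑ w ∈ hfin.toFinset, H22Alg.FiniteDegree.mult f w = 2 := by
    rw [← hr (f x), ← H22Alg.FiniteDegree.finsum_fibre_eq_finrank f (f x), finsum_mem_eq_finite_toFinset_sum _ hfin]
    exact Finset.sum_congr rfl fun w hw => by rw [hdeg w (hfin.mem_toFinset.1 hw), mul_one]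
  replace hu : algebraMap A B z' = u * z ^ n := hu
  refine ⟨fun hne => ?_, fun hone => ?_⟩
  · obtain ⟨w, hw, hwx⟩ : ∃ w, f w = f x ∧ w ≠ x := by
      by_contra hc
      push Not at hc
      exact hne (Set.eq_singleton_iff_unique_mem.2 ⟨rfl, hc⟩)
    have hpos : ∀ v, f v = f x → 1 ≤ H22Alg.FiniteDegree.mult f v := by
      intro v hv
      obtain ⟨-, -, -, zv, hzv, -⟩ := closedPoint_facts (k := k) hX (hclS v hv)
      obtain ⟨-, -, -, zv', hzv', -⟩ := closedPoint_facts (k := k) hY (hv ▸ hy : IsClosed ({f v} : Set Y))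
      obtain ⟨m, -, -, hm, hm'⟩ := exists_mult (k := k) f hX hY hη (hclS v hv) (hv ▸ hy) hzv hzv'
      omega
    have hle : H22Alg.FiniteDegree.mult f x + H22Alg.FiniteDegree.mult f w ≤ 2 := by
      rw [← hsum, ← Finset.sum_pair (f := fun v => H22Alg.FiniteDegree.mult f v) hwx.symm]
      exact Finset.sum_le_sum_of_subset (by
        intro v hv
        rw [hfin.mem_toFinset]
        rcases Finset.mem_insert.1 hv with rfl | hv
        · rfl
        · rw [Finset.mem_singleton.1 hv]; exact hw)
    have h1 := hpos x rfl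
    have h1' := hpos w hw
    have hn1 : n = 1 := by omega
    haveI : Algebra.IsSeparable (ResidueField A) (ResidueField B) := by
      have hb : Function.Surjective (algebraMap (ResidueField A) (ResidueField B)) := fun b => by
        obtain ⟨b, rfl⟩ := residue_surjective b
        obtain ⟨c, hc⟩ := hBres b
        refine ⟨residue A (algebraMap k A c), ?_⟩
        show residue B (f.stalkMap x (algebraMap k A c)) = _
        rw [stalkMap_const f hf x c]
        rw [← residue_eq_zero_iff, map_sub, sub_eq_zero] at hc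
        exact hc.symm
      exact ⟨fun b => by obtain ⟨a, rfl⟩ := hb b; exact isSeparable_algebraMap a⟩
    have hunr : (f.stalkMap x).hom.FormallyUnramified := by
      show Algebra.FormallyUnramified A B
      rw [Algebra.FormallyUnramified.iff_map_maximalIdeal_eq]
      refine ⟨inferInstance, ?_⟩
      rw [hmA, hu, hn1, pow_one, Ideal.span_singleton_mul_left_unit u.isUnit, hmB]
    exact not_not.1 (H29CurveDual.notMem_support_omega f hunr)
  · have hn2 : n = 2 := by
      rw [show hfin.toFinset = {x} from by ext v; simp [hone], Finset.sum_singleton] at hsum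
      omega
    subst hn2
    have h2B : IsUnit (2 : B) := by
      rw [← map_ofNat (algebraMap k B) 2]
      exact (isUnit_iff_ne_zero.2 h2).map _
    obtain ⟨hgen, hkill⟩ := kaehler_ramified k A B hmB hzgen u.isUnit hu h2B
    obtain ⟨e, -⟩ := H29Omega.exists_stalkEquiv _ (H17.PrinOmega.isUniversal_dOmega f) x
    have hv : KaehlerDifferential.D A B z ≠ 0 := by
      intro h0
      haveI : Subsingleton Ω[B⁄A] := subsingleton_of_forall_eq 0 fun w => by
        obtain ⟨b, rfl⟩ := hgen w
        rw [h0, smul_zero]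
      haveI : Algebra.FormallyUnramified A B := ⟨inferInstance⟩
      have h := (Algebra.FormallyUnramified.iff_map_maximalIdeal_eq.1 ‹Algebra.FormallyUnramified A B›).2
      rw [hmA, hu, hmB, Ideal.span_singleton_mul_left_unit u.isUnit, Ideal.span_singleton_eq_span_singleton] at h
      exact hz.not_isUnit (((h.symm.irreducible hz).isUnit_or_isUnit (sq z)).elim id id)
    let v₀ : H25Par.Stk k (Omega.sheaf f) x := e.symm (KaehlerDifferential.D A B z)
    refine (finrank_eq_one_iff_of_nonzero' v₀
      (fun h => hv (e.symm.injective (h.trans (map_zero e.symm).symm)))).2 fun w => ?_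
    obtain ⟨b, hb⟩ := hgen (e w)
    obtain ⟨c, hc⟩ := hBres b
    refine ⟨c, ?_⟩
    show @Eq ((Omega.sheaf f).presheaf.stalk x) ((algebraMap k B c : B) • e.symm (KaehlerDifferential.D A B z)) w
    refine e.injective ?_
    rw [hb, map_smul, e.apply_symm_apply]
    have := hkill _ hc
    rw [sub_smul, sub_eq_zero] at this
    exact this.symm

/-- The differentials of a double cover vanish at the generic point. -/
theorem notMem_support_omega_generic (h2 : (2 : k) ≠ 0) (hX : topologicalKrullDim X = 1)
    (hY : topologicalKrullDim Y = 1) (hf : f ≫ (Y ↘ Spec (CommRingCat.of k)) = X ↘ Spec (CommRingCat.of k))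
    (hη : f (genericPoint X) = genericPoint Y) (hr : ∀ y, f.finrank y = 2) :
    (f.stalkMap (genericPoint X)).hom.FormallyUnramified := by
  haveI := H29RR.isNoetherian_of_proper (k := k) (X := X)
  haveI := H29RR.isNoetherian_of_proper (k := k) (X := Y)
  haveI : IsDominant f := ⟨(dense_iff_closure_eq).2 (Set.eq_univ_of_univ_subset (by
    rw [← (genericPoint_spec Y).def, ← hη]
    exact closure_mono (Set.singleton_subset_iff.2 ⟨_, rfl⟩)))⟩
  haveI : LocallyOfFinitePresentation f := inferInstance
  let η := genericPoint X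
  have hrd : f.residueDegree η = 2 := by
    rw [← H27FibreRank.finrank_genericPoint f (H27FibreRank.preimage_genericPoint (X ↘ Spec (CommRingCat.of k))
      (Y ↘ Spec (CommRingCat.of k)) f hf (hX.trans hY.symm)), hr]
  haveI := H27CurveDiv.smoothOfRelativeDimension_of_dim (X ↘ Spec (CommRingCat.of k)) 1 hX
  obtain ⟨-, hBft, -, -⟩ := H29Curve.stalk_of_smooth k X η 1 ⊤ trivial
    (show SmoothOfRelativeDimension 1 ((⊤ : X.Opens).ι ≫ (X ↘ Spec (CommRingCat.of k))) from
      (inferInstance : SmoothOfRelativeDimension (0 + 1) _))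
  haveI := hBft
  let A := Y.presheaf.stalk (f η)
  let B := X.presheaf.stalk η
  letI : Algebra A B := (f.stalkMap η).hom.toAlgebra
  haveI : IsScalarTower k A B := IsScalarTower.of_algebraMap_eq fun c => (stalkMap_const f hf η c).symm
  haveI : Algebra.EssFiniteType A B := Algebra.EssFiniteType.of_comp k A B
  haveI : IsLocalHom (algebraMap A B) := inferInstanceAs (IsLocalHom (f.stalkMap η).hom)
  have hmA : maximalIdeal A = ⊥ := by
    rw [← IsLocalRing.isField_iff_maximalIdeal_eq]
    show IsField (Y.presheaf.stalk (f η))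
    rw [hη]
    exact Field.toIsField Y.functionField
  have hmB : maximalIdeal B = ⊥ := IsLocalRing.isField_iff_maximalIdeal_eq.1 (Field.toIsField X.functionField)
  haveI : Algebra.IsSeparable (ResidueField A) (ResidueField B) := by
    by_contra hns
    have halg : (inferInstance : Algebra (ResidueField A) (ResidueField B)) = (f.residueFieldMap η).hom.toAlgebra := by
      refine Algebra.algebra_ext _ _ fun a => ?_
      obtain ⟨a, rfl⟩ := residue_surjective a
      exact (congr($(Scheme.residue_residueFieldMap f η) a)).symm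
    have hd : Module.finrank (ResidueField A) (ResidueField B) = 2 := by
      refine Eq.trans ?_ hrd
      exact congrArg (fun (al : Algebra (ResidueField A) (ResidueField B)) =>
        @Module.finrank (ResidueField A) (ResidueField B) _ _ al.toModule) halg
    refine h2 ?_
    obtain ⟨h20, -⟩ := sq_mem_of_inseparable hd hns
    refine ((residue A).comp (algebraMap k A)).injective ?_
    rw [map_ofNat, map_zero, h20]
  show Algebra.FormallyUnramified A B
  rw [Algebra.FormallyUnramified.iff_map_maximalIdeal_eq]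
  exact ⟨inferInstance, by rw [hmA, hmB, Ideal.map_bot]⟩

/-- The number of ramification points of a double cover. -/
theorem finrank_h0_omega_double (h2 : (2 : k) ≠ 0) (hX : topologicalKrullDim X = 1)
    (hY : topologicalKrullDim Y = 1) (hf : f ≫ (Y ↘ Spec (CommRingCat.of k)) = X ↘ Spec (CommRingCat.of k))
    (hη : f (genericPoint X) = genericPoint Y) (hr : ∀ y, f.finrank y = 2) :
    Module.finrank k (Coh.HH X (Omega.sheaf f) 0) =
      Nat.card {x : X // IsClosed ({x} : Set X) ∧ f ⁻¹' {f x} = {x}} := by
  classical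
  haveI := H29RR.isNoetherian_of_proper (k := k) (X := X)
  let S : Set X := {x | IsClosed ({x} : Set X) ∧ f ⁻¹' {f x} = {x}}
  have hgen : genericPoint X ∉ CohB1.support (Omega.sheaf f) :=
    H29CurveDual.notMem_support_omega f (notMem_support_omega_generic f h2 hX hY hf hη hr)
  have hcoh : Coh.IsCoh (Omega.sheaf f) := ⟨H29Omega.isQCoh_sheaf f, H29Omega.isFT_sheaf f⟩
  obtain ⟨hfin, hcl⟩ := H25Par.finite_of_isClosed_of_notMem hX.le (H10Coh.isClosed_support _ hcoh.2) hgen
  have hsub : S ⊆ CohB1.support (Omega.sheaf f) := by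
    intro x hx
    haveI : Nontrivial (H25Par.Stk k (Omega.sheaf f) x) := Module.nontrivial_of_finrank_pos (R := k)
      (by rw [(stalk_omega_double f h2 hX hY hf hr hx.1).2 hx.2]; norm_num)
    exact fun hz => not_subsingleton (H25Par.Stk k (Omega.sheaf f) x) hz
  have hout : ∀ y, y ∉ S → Subsingleton ((Omega.sheaf f).presheaf.stalk y) := by
    intro y hy
    by_contra hne
    exact hne ((stalk_omega_double f h2 hX hY hf hr (hcl y hne)).1 fun he => hy ⟨hcl y hne, he⟩)
  have hSfin : S.Finite := hfin.subset hsub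
  haveI : Finite S := hSfin.to_subtype
  haveI : Fintype S := Fintype.ofFinite S
  rw [(LinearEquiv.ofBijective _ (H25Par.germs_bijective (k := k) (Omega.sheaf f) hSfin (fun z hz => hz.1) hout)).finrank_eq]
  haveI : ∀ y : S, Module.Finite k (H25Par.Stk k (Omega.sheaf f) y.1) := fun y =>
    Module.finite_of_finrank_pos (by rw [(stalk_omega_double f h2 hX hY hf hr y.2.1).2 y.2.2]; norm_num)
  rw [Module.finrank_pi_fintype, Finset.sum_congr rfl fun y _ => (stalk_omega_double f h2 hX hY hf hr y.2.1).2 y.2.2,
    Finset.sum_const, Finset.card_univ, smul_eq_mul, mul_one, ← Nat.card_eq_fintype_card]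
  rfl

/-- The Riemann–Hurwitz formula of a double cover. -/
theorem hurwitz_double (h2 : (2 : k) ≠ 0) (hX : topologicalKrullDim X = 1) (hY : topologicalKrullDim Y = 1)
    (hf : f ≫ (Y ↘ Spec (CommRingCat.of k)) = X ↘ Spec (CommRingCat.of k))
    (hη : f (genericPoint X) = genericPoint Y) (hr : ∀ y, f.finrank y = 2) :
    2 * (Curv2.genus k X : ℤ) - 2 = 2 * (2 * (Curv2.genus k Y : ℤ) - 2) +
      (Nat.card {x : X // IsClosed ({x} : Set X) ∧ f ⁻¹' {f x} = {x}} : ℤ) := by
  haveI := H29RR.isNoetherian_of_proper (k := k) (X := X)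
  haveI := H29RR.isNoetherian_of_proper (k := k) (X := Y)
  haveI : IsDominant f := ⟨(dense_iff_closure_eq).2 (Set.eq_univ_of_univ_subset (by
    rw [← (genericPoint_spec Y).def, ← hη]
    exact closure_mono (Set.singleton_subset_iff.2 ⟨_, rfl⟩)))⟩
  haveI : LocallyOfFinitePresentation f := inferInstance
  have h := H29CurveDual.deg_omega_eq_add (k := k) hX hY f hf hη (notMem_support_omega_generic f h2 hX hY hf hη hr)
  rw [H29CurveDual.deg_omega_of_h0 hX (H29RR.finrank_h0_structure k X),
    H29CurveDual.deg_omega_of_h0 hY (H29RR.finrank_h0_structure k Y),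
    finrank_h0_omega_double f h2 hX hY hf hη hr,
    ← H27FibreRank.finrank_genericPoint f (H27FibreRank.preimage_genericPoint (X ↘ Spec (CommRingCat.of k))
      (Y ↘ Spec (CommRingCat.of k)) f hf (hX.trans hY.symm)), hr] at h
  exact h

end Groth.Agent.H29DoubleCover
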