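import Groth.Agent.S18900

/-!
# The trace involution of a cover of degree two exchanges the points of a fibre
-/

set_option autoImplicit false
set_option linter.style.haveILetI false

universe u

open CategoryTheory CategoryTheory.Limits AlgebraicGeometry TopologicalSpace
open Groth.Agent.S18900

namespace Groth.Agent.H29DoubleCover

theorem mem_or_conj_mem {A B : Type u} [CommRing A] [CommRing B] [Algebra A B] (b : Module.Basis (Fin 2) A B)
    {P Q : Ideal B} [P.IsPrime] (h : P.comap (algebraMap A B) = Q.comap (algebraMap A B)) {y : B} (hy : y ∈ Q) :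
    y ∈ P ∨ sigma b y ∈ P := by
  refine (Ideal.IsPrime.mem_or_mem ‹P.IsPrime› (x := y) (y := sigma b y) ?_)
  have hN : y * S (A := A) y = algebraMap A B (Algebra.leftMulMatrix b y).det := by
    refine Algebra.leftMulMatrix_injective b ?_
    rw [map_mul, leftMul_S, Matrix.mul_adjugate, AlgHom.commutes, Algebra.algebraMap_eq_smul_one]
  have hQ : (Algebra.leftMulMatrix b y).det ∈ Q.comap (algebraMap A B) := by
    rw [Ideal.mem_comap, ← hN]
    exact Ideal.mul_mem_right _ _ hy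
  rw [← h, Ideal.mem_comap, ← hN] at hQ
  exact hQ

/-- Two closed points of one fibre of a cover of degree two are exchanged by an involution over the base. -/
theorem exists_swap {X Y : Scheme.{u}} (f : X ⟶ Y) [IsFinite f] [Flat f] [LocallyOfFinitePresentation f]
    (hrk : ∀ y : Y, f.finrank y = 2) :
    ∃ σ : X ≅ X, σ.hom ≫ f = f ∧ σ.hom ≫ σ.hom = 𝟙 X ∧
      ∀ P Q : X, IsClosed ({Q} : Set X) → P ≠ Q → f P = f Q → σ.hom P = Q := by
  obtain ⟨σ, hσ⟩ := exists_glue f hrk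
  have hX : ∀ {Z : Scheme.{u}} (a b : X ⟶ Z), (∀ (W : Y.Opens) (_ : IsGood f W),
      (f ⁻¹ᵁ W).ι ≫ a = (f ⁻¹ᵁ W).ι ≫ b) → a = b := fun a b h =>
    (X.openCoverOfIsOpenCover (fun W : {W : Y.Opens // IsGood f W} => f ⁻¹ᵁ W.1)
      (top_le_iff.1 fun x _ => by
        obtain ⟨W, hW, hxW, -⟩ := exists_good f hrk ⊤ (f x) trivial
        exact Opens.mem_iSup.2 ⟨⟨W, hW⟩, hxW⟩)).hom_ext _ _ fun W => h W.1 W.2
  have hinv : σ ≫ f = f := hX _ _ fun W hW => by
    rw [← Category.assoc, hσ W hW, Category.assoc, k_comp]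
  have hsq : σ ≫ σ = 𝟙 X := hX _ _ fun W hW => by
    rw [← Category.assoc, hσ W hW, Category.assoc, hσ W hW, ← Category.assoc, k_k, Category.id_comp,
      Category.comp_id]
  refine ⟨⟨σ, σ, hsq, hsq⟩, hinv, hsq, fun P Q hQ hne hPQ => ?_⟩
  obtain ⟨W, hW, hPW, -⟩ := exists_good f hrk ⊤ (f P) trivial
  have hQW : f Q ∈ W := hPQ ▸ hPW
  let hV : IsAffineOpen (f ⁻¹ᵁ W) := hW.1.preimage f
  let p := hV.primeIdealOf ⟨P, hPW⟩
  let q := hV.primeIdealOf ⟨Q, hQW⟩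
  letI := (f.app W).hom.toAlgebra
  let b := hW.2.some
  haveI : q.asIdeal.IsMaximal := hV.primeIdealOf_isMaximal_of_isClosed _ hQ
  have hcomap : p.asIdeal.comap (algebraMap Γ(Y, W) Γ(X, f ⁻¹ᵁ W)) =
      q.asIdeal.comap (algebraMap Γ(Y, W) Γ(X, f ⁻¹ᵁ W)) := by
    have h1 := congrArg PrimeSpectrum.asIdeal (hW.1.comap_primeIdealOf_appLE W (f ⁻¹ᵁ W) hV le_rfl (x := P) hPW)
    have h2 := congrArg PrimeSpectrum.asIdeal (hW.1.comap_primeIdealOf_appLE W (f ⁻¹ᵁ W) hV le_rfl (x := Q) hQW)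
    rw [PrimeSpectrum.comap_asIdeal, ← Scheme.Hom.app_eq_appLE] at h1 h2
    refine h1.trans (Eq.trans ?_ h2.symm)
    congr 3
  have hqp : q.asIdeal ≠ p.asIdeal := fun h => hne
    ((hV.fromSpec_primeIdealOf ⟨P, hPW⟩).symm.trans
      ((congrArg hV.fromSpec (PrimeSpectrum.ext h.symm : p = q)).trans (hV.fromSpec_primeIdealOf ⟨Q, hQW⟩)))
  let p' : PrimeSpectrum Γ(X, f ⁻¹ᵁ W) := p.comap (sW f hW).hom
  have hle : q.asIdeal ≤ p'.asIdeal := by
    have hsub : (q.asIdeal : Set Γ(X, f ⁻¹ᵁ W)) ⊆ p.asIdeal ∪ p'.asIdeal := fun y hy =>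
      mem_or_conj_mem b hcomap hy
    rcases Ideal.subset_union.mp hsub with h | h
    · exact absurd (Ideal.IsMaximal.eq_of_le ‹_› p.isPrime.ne_top h) hqp
    · exact h
  have hqp' : q = p' := PrimeSpectrum.ext (Ideal.IsMaximal.eq_of_le ‹_› p'.isPrime.ne_top hle)
  show σ P = Q
  calc σ P = ((f ⁻¹ᵁ W).ι ≫ σ) ⟨P, hPW⟩ := rfl
    _ = (k f hW ≫ (f ⁻¹ᵁ W).ι) ⟨P, hPW⟩ := by rw [hσ W hW]
    _ = hV.fromSpec p' := by rw [k_ι]; rfl
    _ = Q := by rw [← hqp']; exact hV.fromSpec_primeIdealOf ⟨Q, hQW⟩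

end Groth.Agent.H29DoubleCover
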