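import Groth.Agent.H13AlgSp.FibreCard
import Groth.Agent.H11P1n.Mult
import Groth.Agent.H26Smooth.ProjSmooth
import Groth.Agent.H29CurveDual.PencilUnique
import Groth.Agent.H29DoubleCover.Hyperelliptic

/-!
# Deck transformations of double covers of curves
-/

set_option autoImplicit false
set_option linter.style.haveILetI false

universe u

open CategoryTheory CategoryTheory.Limits AlgebraicGeometry TopologicalSpace
open Groth.Agent.H29RR

namespace Groth.Agent.H29DoubleCover

attribute [local instance 10000] H10Coh.hasSheafifyAb H10Coh.hasWeakSheafifyAb H10Coh.hasExtAb H10Coh.enoughInjAb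

/-- A fibre of a finite flat morphism has at most as many points as its rank. -/
theorem encard_fibre_le {X Y : Scheme.{u}} (f : X ⟶ Y) [IsFinite f] [Flat f] (y : Y) :
    (f ⁻¹' {y}).encard ≤ f.finrank y := by
  haveI : IsFinite (pullback.snd f (Y.fromSpecResidueField y)) := MorphismProperty.pullback_snd _ _ inferInstance
  have h := H13AlgSp.encard_le_finrank (K := Y.residueField y) (pullback.snd f (Y.fromSpecResidueField y))
    (IsLocalRing.closedPoint (Y.residueField y))
  have h2 : (pullback.snd f (Y.fromSpecResidueField y)).finrank (IsLocalRing.closedPoint (Y.residueField y)) = f.finrank y :=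
    (Scheme.Hom.finrank_pullback_snd _ _ _).trans (congrArg _ (Y.fromSpecResidueField_apply y _))
  erw [h2] at h
  rw [Set.encard, ← ENat.card_congr (f.fiberHomeo y).toEquiv]
  exact h

variable {k : Type u} [Field k] [IsAlgClosed k] {X : Scheme.{u}} [IsIntegral X]

/-- Two morphisms over an algebraically closed field agreeing on a dense set of closed points are equal. -/
theorem eq_of_eqOn_closed {Y : Scheme.{u}} {f g : X ⟶ Y} (i : Y ⟶ Spec (CommRingCat.of k)) [IsSeparated i]
    [LocallyOfFiniteType i] [LocallyOfFiniteType (f ≫ i)] (S : Set X) (hS : Dense S)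
    (hcl : ∀ x ∈ S, IsClosed ({x} : Set X)) (H : ∀ x ∈ S, f x = g x) (H' : f ≫ i = g ≫ i) : f = g := by
  refine ext_of_fromSpecResidueField_eq f g i S hS (fun x hxS => ?_) H'
  rw [← cancel_epi (Spec.map (residueFieldIsoBase (f ≫ i) x (hcl x hxS)).hom)]
  refine ext_of_apply_closedPoint_eq i ?_ ?_ (by simpa using H x hxS) <;>
    simp only [Category.assoc, ← SpecMap_residueFieldIsoBase_inv (f ≫ i) x (hcl x hxS), ← Spec.map_comp,
      Iso.inv_hom_id, Spec.map_id, ← H']

/-- A double cover has at most one nontrivial deck transformation. -/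
theorem deck_unique {P : Scheme.{u}} (p : X ⟶ Spec (CommRingCat.of k)) [IsProper p] (h : X ⟶ P) [IsFinite h] [Flat h]
    (hr : ∀ y, h.finrank y = 2) (σ τ : X ⟶ X) (hσp : σ ≫ p = p) (hτp : τ ≫ p = p)
    (hσ : σ ≫ h = h) (hσ₁ : σ ≠ 𝟙 X) (hτ : τ ≫ h = h) (hτ₁ : τ ≠ 𝟙 X) : σ = τ := by
  haveI : JacobsonSpace X := LocallyOfFiniteType.jacobsonSpace p
  haveI : LocallyOfFiniteType (σ ≫ p) := by rw [hσp]; infer_instance
  haveI : LocallyOfFiniteType (τ ≫ p) := by rw [hτp]; infer_instance
  let A := {x ∈ closedPoints X | τ x = x}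
  let B := {x ∈ closedPoints X | σ x = x}
  let C := {x ∈ closedPoints X | σ x = τ x}
  have hcov : closedPoints X ⊆ A ∪ B ∪ C := fun x hx => by
    by_contra hn
    simp only [A, B, C, Set.mem_union, Set.mem_setOf_eq, hx, true_and, not_or] at hn
    obtain ⟨⟨h1, h2⟩, h3⟩ := hn
    have hsub : ({x, σ x, τ x} : Set X) ⊆ h ⁻¹' {h x} := by
      rintro z (rfl | rfl | rfl)
      · exact rfl
      · exact (Scheme.Hom.comp_apply σ h x).symm.trans (by rw [hσ])
      · exact (Scheme.Hom.comp_apply τ h x).symm.trans (by rw [hτ])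
    have h4 : ({x, σ x, τ x} : Set X).encard = 3 := by
      rw [Set.encard_insert_of_notMem (by simp [Ne.symm h1, Ne.symm h2]), Set.encard_pair h3]
      rfl
    have h5 := (Set.encard_le_encard hsub).trans (encard_fibre_le h (h x))
    rw [h4, hr] at h5
    exact absurd h5 (by norm_num)
  have huniv : closure A ∪ closure B ∪ closure C = Set.univ := by
    rw [← closure_union, ← closure_union]
    exact Set.eq_univ_of_univ_subset (closure_closedPoints.ge.trans (closure_mono hcov))
  have hη : genericPoint X ∈ closure A ∪ closure B ∪ closure C := huniv ▸ Set.mem_univ _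
  have hd : ∀ S : Set X, genericPoint X ∈ closure S → Dense S := fun S hS => by
    rw [dense_iff_closure_eq]
    exact Set.eq_univ_of_univ_subset ((genericPoint_spec X).def.ge.trans
      (closure_minimal (Set.singleton_subset_iff.2 hS) isClosed_closure))
  rcases hη with (hA | hB) | hC
  · exact absurd (eq_of_eqOn_closed p A (hd A hA) (fun x hx => hx.1) (fun x hx => hx.2) (by rw [hτp, Category.id_comp])) hτ₁
  · exact absurd (eq_of_eqOn_closed p B (hd B hB) (fun x hx => hx.1) (fun x hx => hx.2) (by rw [hσp, Category.id_comp])) hσ₁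
  · exact eq_of_eqOn_closed p C (hd C hC) (fun x hx => hx.1) (fun x hx => hx.2) (hσp.trans hτp.symm)

section pencils

variable [X.Over (Spec (CommRingCat.of k))] [IsProper (X ↘ Spec (CommRingCat.of k))]
  [Smooth (X ↘ Spec (CommRingCat.of k))]

omit [IsAlgClosed k] [Smooth (X ↘ Spec (CommRingCat.of k))] in
/-- The degree of a finite flat cover of the line. -/
theorem residueDegree_of_finrank (hdim : topologicalKrullDim X = 1) (h : X ⟶ CohB1.ProjSpace 1 k)
    [IsFinite h] [Flat h] (hh : h ≫ CohB1.ProjSpace.toSpec 1 k = X ↘ Spec (CommRingCat.of k))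
    (hr : ∀ y, h.finrank y = 2) : h.residueDegree (genericPoint X) = 2 ∧
      h (genericPoint X) = genericPoint (CohB1.ProjSpace 1 k) := by
  obtain ⟨-, -, hPd⟩ := H28Curve.projLine_facts k
  haveI : IsProper (CohB1.ProjSpace.toSpec 1 k) := H27Weil.isProper_toSpec 1 k
  haveI : JacobsonSpace X := LocallyOfFiniteType.jacobsonSpace (X ↘ Spec (CommRingCat.of k))
  have hη := apply_genericPoint hPd.le h (exists_ne_of_isFinite hdim h)
  haveI : IsDominant h := ⟨(dense_iff_closure_eq).2 (Set.eq_univ_of_univ_subset (by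
    rw [← (genericPoint_spec (CohB1.ProjSpace 1 k)).def, ← hη]
    exact closure_mono (Set.singleton_subset_iff.2 ⟨_, rfl⟩)))⟩
  refine ⟨?_, hη⟩
  rw [← H27FibreRank.finrank_genericPoint h (H27FibreRank.preimage_genericPoint (X ↘ Spec (CommRingCat.of k))
    (CohB1.ProjSpace.toSpec 1 k) h hh (hdim.trans hPd.symm)), hr]

omit [IsAlgClosed k] in
/-- A double cover of the line in positive genus is a pencil, and every section of it comes from the line. -/
theorem pull_surjective (hdim : topologicalKrullDim X = 1)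
    (h00 : Module.finrank k (Coh.HH X (Coh.structureModule X) 0) = 1) (hg : 1 ≤ Curv2.genus k X)
    (h : X ⟶ CohB1.ProjSpace 1 k) [IsFinite h] [Flat h]
    (hh : h ≫ CohB1.ProjSpace.toSpec 1 k = X ↘ Spec (CommRingCat.of k)) (hr : ∀ y, h.finrank y = 2) :
    Curv2.deg k X ((Scheme.Modules.pullback h).obj (Twist.twistProjSpace 1 k 1)) 1 = 2 ∧
    2 ≤ Module.finrank k (Coh.HH X ((Scheme.Modules.pullback h).obj (Twist.twistProjSpace 1 k 1)) 0) ∧
    ∀ v, ∃ w : Γ(Twist.twistProjSpace 1 k 1, ⊤), H11Ample.pullTop h w = v := by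
  letI := H29RR.PnPic.overSpec 1 k
  haveI : IsProper (CohB1.ProjSpace 1 k ↘ Spec (CommRingCat.of k)) := H27Weil.isProper_toSpec 1 k
  haveI := isNoetherian_of_proper (k := k) (X := CohB1.ProjSpace 1 k)
  haveI := isNoetherian_of_proper (k := k) (X := X)
  obtain ⟨-, -, hPd⟩ := H28Curve.projLine_facts k
  obtain ⟨hrd, hη⟩ := residueDegree_of_finrank hdim h hh hr
  let O1 := Twist.twistProjSpace 1 k 1
  have hO1 : PicF.IsInvertible O1 := (H10Coh.Stab.isTwistFamily_projSpace 1 k).inv 1
  let L := (Scheme.Modules.pullback h).obj O1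
  have hL : PicF.IsInvertible L := H11Ample.isInvertible_pullback h hO1
  have hd : Curv2.deg k X L 1 = 2 := by
    have := S7640.result k X (CohB1.ProjSpace 1 k) hdim hPd h hh hη 1 O1 (rank_one_of_isInvertible hO1)
    rw [hrd, deg_twist_one, mul_one] at this
    exact_mod_cast this
  haveI := finite_HH (k := k) L hL 0
  haveI := finite_HH (k := k) O1 hO1 0
  let T : Coh.HH (CohB1.ProjSpace 1 k) O1 0 →ₗ[k] Coh.HH X L 0 :=
    { toFun := fun w => (sec L).symm (H11Ample.pullTop h (sec O1 w))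
      map_add' := fun a b => by
        rw [← map_add]; congr 1; rw [map_add]
        exact map_add (((Scheme.Modules.pullbackPushforwardAdjunction h).unit.app O1).app ⊤).hom _ _
      map_smul' := fun c a => by
        apply (sec L).injective
        rw [RingHom.id_apply, AddEquiv.apply_symm_apply, sec_smul, sec_smul, AddEquiv.apply_symm_apply]
        refine (((Scheme.Modules.pullbackPushforwardAdjunction h).unit.app O1).app_smul _ _).trans ?_
        refine congrArg (fun t : Γ(X, ⊤) => t • H11Ample.pullTop h (sec O1 a)) ?_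
        show h.app ⊤ (ProjUP.toGlobal (CohB1.ProjSpace.toSpec 1 k) c) = ProjUP.toGlobal (X ↘ Spec (CommRingCat.of k)) c
        rw [← hh, ProjUP.toGlobal, ProjUP.toGlobal, Scheme.Hom.comp_appTop]
        rfl }
  have hTi : Function.Injective T := (injective_iff_map_eq_zero T).2 fun w hw => by
    by_contra hne
    have hne' : sec O1 w ≠ 0 := fun h0 => hne ((sec O1).injective (h0.trans (map_zero _).symm))
    have h1 : genericPoint X ∈ H11Ample.gen L (H11Ample.pullTop h (sec O1 w)) := by
      rw [H11P1n.gen_pullTop h hO1]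
      show h (genericPoint X) ∈ H11Ample.gen O1 (sec O1 w)
      rw [hη]
      exact H29RR.genericPoint_mem_gen hO1 hne'
    have h2 : H11Ample.pullTop h (sec O1 w) = 0 := by
      have := congrArg (sec L) hw
      rwa [map_zero, show T w = (sec L).symm (H11Ample.pullTop h (sec O1 w)) from rfl, AddEquiv.apply_symm_apply] at this
    rw [h2, H29CurveDual.mem_gen_iff_notMem hL, map_zero] at h1
    exact h1 (Submodule.zero_mem _)
  have h2O := finrank_h0_twist_one (k := k)
  have hle := LinearMap.finrank_le_finrank_of_injective hTi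
  rw [h2O] at hle
  have h2L : Module.finrank k (Coh.HH X L 0) = 2 := le_antisymm (h0_le_two hdim.le h00 hg hL hd) hle
  refine ⟨hd, hle, fun v => ?_⟩
  obtain ⟨w, hw⟩ := (LinearMap.injective_iff_surjective_of_finrank_eq_finrank (h2O.trans h2L.symm)).1 hTi ((sec L).symm v)
  exact ⟨sec O1 w, (sec L).symm.injective hw⟩

/-- Linear forms separate the closed points of the line. -/
theorem eq_of_gen_iff {p q : ↥(CohB1.ProjSpace 1 k)} (hp : IsClosed ({p} : Set ↥(CohB1.ProjSpace 1 k)))
    (hq : IsClosed ({q} : Set ↥(CohB1.ProjSpace 1 k)))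
    (H : ∀ w : Γ(Twist.twistProjSpace 1 k 1, ⊤), p ∈ H11Ample.gen (Twist.twistProjSpace 1 k 1) w ↔
      q ∈ H11Ample.gen (Twist.twistProjSpace 1 k 1) w) : p = q := by
  letI := H29RR.PnPic.overSpec 1 k
  let P := CohB1.ProjSpace 1 k
  haveI : IsProper (P ↘ Spec (CommRingCat.of k)) := H27Weil.isProper_toSpec 1 k
  haveI : Smooth (P ↘ Spec (CommRingCat.of k)) := H26Smooth.smooth_toSpec 1 k
  haveI := isNoetherian_of_proper (k := k) (X := P)
  obtain ⟨-, -, hPd⟩ := H28Curve.projLine_facts k
  have hd' : topologicalKrullDim P = 1 := hPd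
  by_contra hne
  let O1 := Twist.twistProjSpace 1 k 1
  have hO1 : PicF.IsInvertible O1 := (H10Coh.Stab.isTwistFamily_projSpace 1 k).inv 1
  have hI := H29CurveDual.isInvertible_pt (k := k) hd' hq
  have hT := H11Ample.isInvertible_tensor hI hO1
  obtain ⟨-, h1, -⟩ := twist_point (k := k) hq hO1 (H29CurveDual.isCoh_of_isInvertible hI)
  rw [finrank_residue_eq_one (k := k) hq, finrank_h0_twist_one] at h1
  haveI : Nontrivial (Coh.HH P (CohB1.tensorMod (ClSub.idealMod (ptIdeal q)) O1) 0) :=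
    Module.nontrivial_of_finrank_pos (R := k)
      (show 0 < Module.finrank k (Coh.HH (CohB1.ProjSpace 1 k) (CohB1.tensorMod (ClSub.idealMod (ptIdeal q)) O1) 0) by omega)
  have hd : Curv2.deg k P (CohB1.tensorMod (ClSub.idealMod (ptIdeal q)) O1) 1 = 0 := by
    rw [H29CurveDual.deg_ptIdeal_tensor hd' hq hO1, deg_twist_one]; rfl
  obtain ⟨i⟩ := (bounds_of_section (k := k) hd'.le hT inferInstance).2.2.2 hd
  let g : Γ(CohB1.tensorMod (ClSub.idealMod (ptIdeal q)) O1, ⊤) := i.inv.app ⊤ (H11Ample.one ⊤)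
  have hg : p ∈ H11Ample.gen _ g := by
    rw [H11Ample.gen_iso]
    refine H11Ample.mem_gen_of_isGen (W := ⊤) ?_ (show p ∈ (⊤ : P.Opens) from trivial)
    have h0 : (homOfLE (le_top : (⊤ : P.Opens) ≤ ⊤)).op = 𝟙 _ := Subsingleton.elim _ _
    rw [h0, CategoryTheory.Functor.map_id]
    exact H11Ample.isGen_one (X := P) ⊤
  obtain ⟨hoff, hat, -⟩ := H29CurveDual.ptIncl_stalks (k := k) hq (finrank_residue_eq_one (k := k) hq) hO1 hI
  have hpw : p ∈ H11Ample.gen O1 ((ptIncl q O1).app ⊤ g) := by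
    rw [H29CurveDual.mem_gen_iff_notMem hO1, ← germ_app, H29CurveDual.mem_smul_top_iff _ _ (hoff p hne),
      ← H29CurveDual.mem_gen_iff_notMem hT]
    exact hg
  refine (H29CurveDual.mem_gen_iff_notMem hO1 _ _).1 ((H _).1 hpw) ?_
  rw [← hat, ← germ_app]
  exact ⟨_, rfl⟩

/-- Deck transformations of one double cover of the line commute with every other one. -/
theorem comp_eq_of_deck (hdim : topologicalKrullDim X = 1) (hg : 2 ≤ Curv2.genus k X)
    (h₁ h₂ : X ⟶ CohB1.ProjSpace 1 k) [IsFinite h₁] [Flat h₁] [IsFinite h₂] [Flat h₂]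
    (hh₁ : h₁ ≫ CohB1.ProjSpace.toSpec 1 k = X ↘ Spec (CommRingCat.of k))
    (hh₂ : h₂ ≫ CohB1.ProjSpace.toSpec 1 k = X ↘ Spec (CommRingCat.of k))
    (hr₁ : ∀ y, h₁.finrank y = 2) (hr₂ : ∀ y, h₂.finrank y = 2) (σ : X ⟶ X) (hσ : σ ≫ h₁ = h₁) :
    σ ≫ h₂ = h₂ := by
  have h00 := finrank_h0_structure k X
  haveI : IsProper (CohB1.ProjSpace.toSpec 1 k) := H27Weil.isProper_toSpec 1 k
  have hσp : σ ≫ (X ↘ Spec (CommRingCat.of k)) = X ↘ Spec (CommRingCat.of k) := by
    rw [← hh₁, reassoc_of% hσ]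
  haveI : IsProper σ := by
    haveI : IsProper (σ ≫ (X ↘ Spec (CommRingCat.of k))) := by rw [hσp]; infer_instance
    exact IsProper.of_comp σ (X ↘ Spec (CommRingCat.of k))
  obtain ⟨hd₁, hle₁, hs₁⟩ := pull_surjective hdim h00 (by omega) h₁ hh₁ hr₁
  obtain ⟨hd₂, hle₂, -⟩ := pull_surjective hdim h00 (by omega) h₂ hh₂ hr₂
  have hO1 : PicF.IsInvertible (Twist.twistProjSpace 1 k 1) := (H10Coh.Stab.isTwistFamily_projSpace 1 k).inv 1
  obtain ⟨φ⟩ := H29CurveDual.nonempty_iso_of_pencils (k := k) hdim hg (H11Ample.isInvertible_pullback h₂ hO1) hd₂ hle₂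
    (H11Ample.isInvertible_pullback h₁ hO1) hd₁ hle₁
  haveI : LocallyOfFiniteType ((σ ≫ h₂) ≫ CohB1.ProjSpace.toSpec 1 k) := by
    rw [Category.assoc, hh₂, hσp]; infer_instance
  haveI : JacobsonSpace X := LocallyOfFiniteType.jacobsonSpace (X ↘ Spec (CommRingCat.of k))
  refine eq_of_eqOn_closed (CohB1.ProjSpace.toSpec 1 k) (closedPoints X)
    (dense_iff_closure_eq.2 closure_closedPoints) (fun _ h => h) (fun x hx => ?_)
    (by rw [Category.assoc, hh₂, hσp])
  have hσx : IsClosed ({σ x} : Set X) := Set.image_singleton ▸ σ.isClosedMap _ hx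
  show h₂ (σ x) = h₂ x
  refine eq_of_gen_iff (Set.image_singleton ▸ h₂.isClosedMap _ hσx) (Set.image_singleton ▸ h₂.isClosedMap _ hx) fun w => ?_
  obtain ⟨w', hw'⟩ := hs₁ (φ.hom.app ⊤ (H11Ample.pullTop h₂ w))
  have key : ∀ z : X, h₂ z ∈ H11Ample.gen _ w ↔ h₁ z ∈ H11Ample.gen _ w' := fun z => by
    have e1 := H11P1n.gen_pullTop h₂ hO1 w
    have e2 := H11P1n.gen_pullTop h₁ hO1 w'
    rw [hw', H11Ample.gen_iso, e1] at e2
    exact Eq.to_iff (congrArg (fun U : X.Opens => z ∈ U) e2)
  rw [key, key, ← Scheme.Hom.comp_apply, hσ]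

end pencils

end Groth.Agent.H29DoubleCover
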