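import Groth.Agent.H29DoubleCover.Swap
import Groth.Agent.H29DoubleCover.Deck
import Groth.Agent.H29DoubleCover.Connected
import Groth.Agent.H29GenusZero.Basic
import Groth.Agent.H05EGA4.DenseExt
import Groth.Agent.S3843
import Groth.Agent.H13AlgSp.EtaleLocally

/-!
# Double covers of genus zero curves are determined by the curve, over any field
-/

set_option autoImplicit false
set_option linter.style.haveILetI false

universe u

open CategoryTheory CategoryTheory.Limits AlgebraicGeometry TopologicalSpace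

namespace Groth.Agent.H29DoubleCover

attribute [local instance 10000] H10Coh.hasSheafifyAb H10Coh.hasWeakSheafifyAb H10Coh.hasExtAb H10Coh.enoughInjAb

/-- The genus does not change under an extension of the ground field. -/
theorem genus_bc {k K : Type u} [Field k] [Field K] [Algebra k K] {X Z : Scheme.{u}}
    (p : X ⟶ Spec (CommRingCat.of k)) [IsProper p] (p' : Z ⟶ Spec (CommRingCat.of K)) (j : Z ⟶ X)
    (hsq : IsPullback j p' p (Spec.map (CommRingCat.ofHom (algebraMap k K)))) :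
    @Curv2.genus K _ Z ⟨p'⟩ = @Curv2.genus k _ X ⟨p⟩ := by
  letI : X.Over (Spec (CommRingCat.of k)) := ⟨p⟩
  letI : Z.Over (Spec (CommRingCat.of K)) := ⟨p'⟩
  haveI : IsProper (X ↘ Spec (CommRingCat.of k)) := ‹IsProper p›
  haveI := H29RR.isNoetherian_of_proper (k := k) (X := X)
  show Curv2.genus K Z = Curv2.genus k X
  have hsq' : IsPullback j (Z ↘ Spec (CommRingCat.of K)) (X ↘ Spec (CommRingCat.of k))
      (Spec.map (CommRingCat.ofHom (algebraMap k K))) := hsq
  rw [Curv2.genus,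
    ← (H29RR.hhIso (k := K) (H16Derived.KFlat.Stalk.structurePullbackIso j) 1).finrank_eq,
    H28Int.FieldExt.finrank_HH_bc K hsq' (H10Coh.isCoh_structureModule' X) 1]
  rfl

/-- A smooth proper connected curve of genus zero over an algebraically closed field is the line. -/
theorem exists_iso_projLine {K : Type u} [Field K] [IsAlgClosed K] {P : Scheme.{u}}
    (q : P ⟶ Spec (CommRingCat.of K)) [IsProper q] [Smooth q] [ConnectedSpace P]
    (hP : topologicalKrullDim P = 1) (hg : @Curv2.genus K _ P ⟨q⟩ = 0) :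
    ∃ e : P ≅ CohB1.ProjSpace 1 K, e.hom ≫ CohB1.ProjSpace.toSpec 1 K = q := by
  letI : P.Over (Spec (CommRingCat.of K)) := ⟨q⟩
  haveI : IsProper (P ↘ Spec (CommRingCat.of K)) := ‹IsProper q›
  haveI : GeometricallyConnected q := H22Alg.VarGeom.geometricallyConnected_of_isSepClosed q
  haveI : IsIntegral P := isIntegral_of_smooth_connected q
  haveI : JacobsonSpace P := LocallyOfFiniteType.jacobsonSpace q
  obtain ⟨x, -, hx⟩ := nonempty_inter_closedPoints (X := P) (Z := Set.univ) Set.univ_nonempty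
    isClosed_univ.isLocallyClosed
  exact H29GenusZero.exists_iso_of_section hP hg ((pointEquivClosedPoint q).symm ⟨x, hx⟩).1
    ((pointEquivClosedPoint q).symm ⟨x, hx⟩).2 fun _ => H19Grp.isRegularLocalRing_stalk_of_smooth q _

/-- Over an algebraically closed field the fibres of one double cover of a genus zero curve are those of any other. -/
theorem apply_eq_of_apply_eq {K : Type u} [Field K] [IsAlgClosed K] {C P₁ P₂ : Scheme.{u}}
    (p : C ⟶ Spec (CommRingCat.of K)) [IsProper p] [Smooth p] [ConnectedSpace C]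
    (hC : topologicalKrullDim C = 1) (hg : 2 ≤ @Curv2.genus K _ C ⟨p⟩)
    (q₁ : P₁ ⟶ Spec (CommRingCat.of K)) [IsProper q₁] [Smooth q₁] [ConnectedSpace P₁]
    (hP₁ : topologicalKrullDim P₁ = 1) (hg₁ : @Curv2.genus K _ P₁ ⟨q₁⟩ = 0)
    (q₂ : P₂ ⟶ Spec (CommRingCat.of K)) [IsProper q₂] [Smooth q₂] [ConnectedSpace P₂]
    (hP₂ : topologicalKrullDim P₂ = 1) (hg₂ : @Curv2.genus K _ P₂ ⟨q₂⟩ = 0)
    (f₁ : C ⟶ P₁) (hf₁ : f₁ ≫ q₁ = p) [IsFinite f₁] [Flat f₁] (hr₁ : ∀ y : P₁, f₁.finrank y = 2)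
    (f₂ : C ⟶ P₂) (hf₂ : f₂ ≫ q₂ = p) [IsFinite f₂] [Flat f₂] (hr₂ : ∀ y : P₂, f₂.finrank y = 2)
    {a b : C} (hb : IsClosed ({b} : Set C)) (hab : f₁ a = f₁ b) : f₂ a = f₂ b := by
  obtain rfl | hne := eq_or_ne a b
  · rfl
  letI : C.Over (Spec (CommRingCat.of K)) := ⟨p⟩
  haveI : IsProper (C ↘ Spec (CommRingCat.of K)) := ‹IsProper p›
  haveI : Smooth (C ↘ Spec (CommRingCat.of K)) := ‹Smooth p›
  haveI : GeometricallyConnected p := H22Alg.VarGeom.geometricallyConnected_of_isSepClosed p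
  haveI : IsIntegral C := isIntegral_of_smooth_connected p
  obtain ⟨e₁, he₁⟩ := exists_iso_projLine q₁ hP₁ hg₁
  obtain ⟨e₂, he₂⟩ := exists_iso_projLine q₂ hP₂ hg₂
  let h₁ := f₁ ≫ e₁.hom
  let h₂ := f₂ ≫ e₂.hom
  have hrk : ∀ {P : Scheme.{u}} (f : C ⟶ P) [IsFinite f] [Flat f] (e : P ≅ CohB1.ProjSpace 1 K),
      (∀ y : P, f.finrank y = 2) → ∀ y, (f ≫ e.hom).finrank y = 2 := fun f _ _ e hr y => by
    rw [Scheme.Hom.finrank_of_isPullback (𝟙 C) (f ≫ e.hom) f e.inv
      (IsPullback.of_horiz_isIso ⟨by simp⟩) y]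
    exact hr _
  haveI : LocallyOfFinitePresentation h₁ := by
    haveI : IsLocallyNoetherian (CohB1.ProjSpace 1 K) := LocallyOfFiniteType.isLocallyNoetherian
      (CohB1.ProjSpace.toSpec 1 K)
    infer_instance
  obtain ⟨σ, hσ, -, hswap⟩ := exists_swap h₁ (hrk f₁ e₁ hr₁)
  have hh₁ : h₁ ≫ CohB1.ProjSpace.toSpec 1 K = C ↘ Spec (CommRingCat.of K) := by
    rw [Category.assoc, he₁]; exact hf₁
  have hh₂ : h₂ ≫ CohB1.ProjSpace.toSpec 1 K = C ↘ Spec (CommRingCat.of K) := by
    rw [Category.assoc, he₂]; exact hf₂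
  have h := comp_eq_of_deck (k := K) hC hg h₁ h₂ hh₁ hh₂ (hrk f₁ e₁ hr₁) (hrk f₂ e₂ hr₂) σ.hom hσ
  have hσab : σ.hom a = b := hswap a b hb hne (congrArg e₁.hom hab)
  have h' : h₂ (σ.hom a) = h₂ a := by rw [← Scheme.Hom.comp_apply, h]
  rw [hσab] at h'
  exact e₂.hom.homeomorph.injective h'.symm

/-- Two generically étale double covers of genus zero curves by one curve differ by a morphism of the bases. -/
theorem exists_factor {k : Type u} [Field k] {C P₁ P₂ : Scheme.{u}}
    (p : C ⟶ Spec (CommRingCat.of k)) [IsProper p] [Smooth p] [GeometricallyConnected p]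
    (hC : topologicalKrullDim C = 1) (hg : 2 ≤ @Curv2.genus k _ C ⟨p⟩)
    (q₁ : P₁ ⟶ Spec (CommRingCat.of k)) [IsProper q₁] [Smooth q₁] [GeometricallyConnected q₁]
    (hP₁ : topologicalKrullDim P₁ = 1) (hg₁ : @Curv2.genus k _ P₁ ⟨q₁⟩ = 0)
    (q₂ : P₂ ⟶ Spec (CommRingCat.of k)) [IsProper q₂] [Smooth q₂] [GeometricallyConnected q₂]
    (hP₂ : topologicalKrullDim P₂ = 1) (hg₂ : @Curv2.genus k _ P₂ ⟨q₂⟩ = 0)
    (f₁ : C ⟶ P₁) (hf₁ : f₁ ≫ q₁ = p) [IsFinite f₁] [Flat f₁] (hr₁ : ∀ y : P₁, f₁.finrank y = 2)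
    (he₁ : ∃ V : C.Opens, (V : Set C).Nonempty ∧ Etale (V.ι ≫ f₁))
    (f₂ : C ⟶ P₂) (hf₂ : f₂ ≫ q₂ = p) [IsFinite f₂] [Flat f₂] (hr₂ : ∀ y : P₂, f₂.finrank y = 2) :
    ∃ e : P₁ ⟶ P₂, e ≫ q₂ = q₁ ∧ f₁ ≫ e = f₂ := by
  haveI : IsLocallyNoetherian P₁ := LocallyOfFiniteType.isLocallyNoetherian q₁
  haveI : LocallyOfFinitePresentation f₁ := inferInstance
  haveI : Surjective f₁ := (Scheme.Hom.one_le_finrank_iff_surjective f₁).1 fun y => by simp [hr₁ y]
  haveI : IsIntegral C := isIntegral_of_smooth_connected p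
  let K := AlgebraicClosure k
  let β := Spec.map (CommRingCat.ofHom (algebraMap k K))
  -- the two projections agree on a schematically dense open
  obtain ⟨V, hV, hEt⟩ := he₁
  let R := pullback f₁ f₁
  let r₁ : R ⟶ C := pullback.fst f₁ f₁
  let r₂ : R ⟶ C := pullback.snd f₁ f₁
  haveI : Flat r₁ := MorphismProperty.pullback_fst _ _ inferInstance
  haveI : LocallyOfFinitePresentation r₁ := MorphismProperty.pullback_fst _ _ inferInstance
  have hVd : CInt.IsSchematicallyDense V := fun W => by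
    rcases (W : Set C).eq_empty_or_nonempty with hW | ⟨w, hw⟩
    · haveI : Subsingleton Γ(C, W) := by
        rw [show W = ⊥ from Opens.ext hW]; infer_instance
      exact Function.injective_of_subsingleton _
    · haveI : Nonempty (W ⊓ V : C.Opens) := by
        obtain ⟨v, hv⟩ := nonempty_preirreducible_inter W.2 V.2 ⟨w, hw⟩ hV
        exact ⟨⟨v, hv⟩⟩
      exact map_injective_of_isIntegral C _
  let W : R.Opens := r₁ ⁻¹ᵁ V
  haveI : IsReduced W.toScheme := by
    have hpb : IsPullback (r₁ ∣_ V) (W.ι ≫ r₂) (V.ι ≫ f₁) f₁ :=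
      (isPullback_morphismRestrict r₁ V).paste_vert (IsPullback.of_hasPullback f₁ f₁)
    haveI : Etale (W.ι ≫ r₂) := MorphismProperty.of_isPullback hpb hEt
    haveI : Smooth (W.ι ≫ r₂) := inferInstance
    exact H13AlgSp.isReduced_of_smooth_mor (W.ι ≫ r₂)
  have hR : (W.ι ≫ r₁ ≫ f₂) ≫ q₂ = (W.ι ≫ r₂ ≫ f₂) ≫ q₂ := by
    simp only [Category.assoc, hf₂]
    rw [← hf₁, reassoc_of% pullback.condition (f := f₁) (g := f₁)]
  have key : W.ι ≫ r₁ ≫ f₂ = W.ι ≫ r₂ ≫ f₂ := by
    haveI : LocallyOfFiniteType (W.ι ≫ r₁ ≫ p) := inferInstance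
    haveI : JacobsonSpace W := LocallyOfFiniteType.jacobsonSpace (W.ι ≫ r₁ ≫ p)
    refine ext_of_fromSpecResidueField_eq _ _ q₂ (closedPoints W.toScheme)
      (dense_iff_closure_eq.2 closure_closedPoints) (fun x hx => ?_) hR
    -- a geometric point at `x`
    let π := W.ι ≫ r₁ ≫ p
    let κ := W.toScheme.residueField x
    let φ : CommRingCat.of k ⟶ κ := Spec.preimage (W.toScheme.fromSpecResidueField x ≫ π)
    letI : Algebra k κ := φ.hom.toAlgebra
    haveI : Module.Finite k κ := by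
      have : IsFinite (W.toScheme.fromSpecResidueField x ≫ π) := by
        have := isClosed_singleton_iff_isClosedImmersion.mp hx
        rw [isFinite_iff_locallyOfFiniteType_of_jacobsonSpace]
        infer_instance
      rw [← Spec.map_preimage (W.toScheme.fromSpecResidueField x ≫ π), IsFinite.SpecMap_iff] at this
      exact this
    let ι : κ →ₐ[k] K := IsAlgClosed.lift
    let t : Spec (CommRingCat.of K) ⟶ Spec κ := Spec.map (CommRingCat.ofHom ι.toRingHom)
    haveI : Flat t := by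
      rw [HasRingHomProperty.Spec_iff (P := @Flat)]
      letI := ι.toRingHom.toAlgebra
      exact RingHom.flat_algebraMap_iff.2 inferInstance
    haveI : Surjective t := ⟨fun z => ⟨IsLocalRing.closedPoint _, Subsingleton.elim _ _⟩⟩
    rw [← cancel_epi t]
    have hover : (t ≫ W.toScheme.fromSpecResidueField x) ≫ π = β := by
      rw [Category.assoc, ← Spec.map_preimage (W.toScheme.fromSpecResidueField x ≫ π), ← Spec.map_comp]
      exact congrArg Spec.map (CommRingCat.hom_ext ι.comp_algebraMap)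
    let u := t ≫ W.toScheme.fromSpecResidueField x ≫ W.ι
    have hu : (u ≫ r₁) ≫ p = β := by simpa [u, π, Category.assoc] using hover
    have hu' : (u ≫ r₁) ≫ f₁ = (u ≫ r₂) ≫ f₁ := by
      simp only [Category.assoc]; rw [pullback.condition]
    have hu₂ : (u ≫ r₂) ≫ p = β := by rw [← hu, ← hf₁, ← Category.assoc, ← hu', Category.assoc]
    -- the base change to the algebraic closure
    let C' := pullback p β
    let Q₁ := pullback q₁ β
    let Q₂ := pullback q₂ β
    let p' : C' ⟶ Spec (CommRingCat.of K) := pullback.snd p β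
    let q₁' : Q₁ ⟶ Spec (CommRingCat.of K) := pullback.snd q₁ β
    let q₂' : Q₂ ⟶ Spec (CommRingCat.of K) := pullback.snd q₂ β
    let g₁ : C' ⟶ Q₁ := pullback.lift (pullback.fst p β ≫ f₁) p' (by rw [Category.assoc, hf₁, pullback.condition])
    let g₂ : C' ⟶ Q₂ := pullback.lift (pullback.fst p β ≫ f₂) p' (by rw [Category.assoc, hf₂, pullback.condition])
    haveI : IsProper p' := MorphismProperty.pullback_snd _ _ inferInstance
    haveI : Smooth p' := MorphismProperty.pullback_snd _ _ inferInstance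
    haveI : IsProper q₁' := MorphismProperty.pullback_snd _ _ inferInstance
    haveI : Smooth q₁' := MorphismProperty.pullback_snd _ _ inferInstance
    haveI : IsProper q₂' := MorphismProperty.pullback_snd _ _ inferInstance
    haveI : Smooth q₂' := MorphismProperty.pullback_snd _ _ inferInstance
    haveI : ConnectedSpace C' := GeometricallyConnected.connectedSpace_of_subsingleton p'
    haveI : ConnectedSpace Q₁ := GeometricallyConnected.connectedSpace_of_subsingleton q₁'
    haveI : ConnectedSpace Q₂ := GeometricallyConnected.connectedSpace_of_subsingleton q₂'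
    have hsq₁ : IsPullback (pullback.fst p β) g₁ f₁ (pullback.fst q₁ β) :=
      IsPullback.of_bot (by rw [show g₁ ≫ pullback.snd q₁ β = p' from pullback.lift_snd _ _ _, hf₁]; exact IsPullback.of_hasPullback p β)
        (pullback.lift_fst _ _ _).symm (IsPullback.of_hasPullback q₁ β)
    have hsq₂ : IsPullback (pullback.fst p β) g₂ f₂ (pullback.fst q₂ β) :=
      IsPullback.of_bot (by rw [show g₂ ≫ pullback.snd q₂ β = p' from pullback.lift_snd _ _ _, hf₂]; exact IsPullback.of_hasPullback p β)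
        (pullback.lift_fst _ _ _).symm (IsPullback.of_hasPullback q₂ β)
    haveI : IsFinite g₁ := MorphismProperty.of_isPullback hsq₁ inferInstance
    haveI : Flat g₁ := MorphismProperty.of_isPullback hsq₁ inferInstance
    haveI : IsFinite g₂ := MorphismProperty.of_isPullback hsq₂ inferInstance
    haveI : Flat g₂ := MorphismProperty.of_isPullback hsq₂ inferInstance
    let a : Spec (CommRingCat.of K) ⟶ C' := pullback.lift (u ≫ r₁) (𝟙 _) (by rw [hu, Category.id_comp])
    let b : Spec (CommRingCat.of K) ⟶ C' := pullback.lift (u ≫ r₂) (𝟙 _) (by rw [hu₂, Category.id_comp])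
    have hab : a ≫ g₁ = b ≫ g₁ := by
      refine pullback.hom_ext ?_ ?_
      · calc (a ≫ g₁) ≫ pullback.fst q₁ β = a ≫ pullback.fst p β ≫ f₁ := by
              rw [Category.assoc, pullback.lift_fst]
          _ = (u ≫ r₁) ≫ f₁ := pullback.lift_fst_assoc _ _ _ _
          _ = (u ≫ r₂) ≫ f₁ := hu'
          _ = b ≫ pullback.fst p β ≫ f₁ := (pullback.lift_fst_assoc _ _ _ _).symm
          _ = (b ≫ g₁) ≫ pullback.fst q₁ β := by rw [Category.assoc, pullback.lift_fst]
      · rw [Category.assoc, Category.assoc, pullback.lift_snd, pullback.lift_snd, pullback.lift_snd]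
    have hb : IsClosed ({b (IsLocalRing.closedPoint K)} : Set C') := by
      haveI : IsClosedImmersion b := by
        haveI : IsClosedImmersion (b ≫ p') := by
          rw [show b ≫ p' = 𝟙 _ from pullback.lift_snd _ _ _]; infer_instance
        exact IsClosedImmersion.of_comp b p'
      convert b.isClosedEmbedding.isClosed_range using 1
      ext z
      exact ⟨fun h => ⟨_, (Set.mem_singleton_iff.1 h).symm⟩,
        fun ⟨w, hw⟩ => hw ▸ congrArg b (Subsingleton.elim (α := PrimeSpectrum K) w _)⟩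
    have hpt := apply_eq_of_apply_eq p' ((Groth.Agent.S4642.result (K := K) p).trans hC)
      (by rw [genus_bc p p' _ (IsPullback.of_hasPullback p β)]; exact hg) q₁'
      ((Groth.Agent.S4642.result (K := K) q₁).trans hP₁)
      (by rw [genus_bc q₁ q₁' _ (IsPullback.of_hasPullback q₁ β)]; exact hg₁) q₂'
      ((Groth.Agent.S4642.result (K := K) q₂).trans hP₂)
      (by rw [genus_bc q₂ q₂' _ (IsPullback.of_hasPullback q₂ β)]; exact hg₂)
      g₁ (pullback.lift_snd _ _ _)
      (fun y => (Scheme.Hom.finrank_of_isPullback _ _ _ _ hsq₁ y).trans (hr₁ _))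
      g₂ (pullback.lift_snd _ _ _)
      (fun y => (Scheme.Hom.finrank_of_isPullback _ _ _ _ hsq₂ y).trans (hr₂ _))
      (a := a (IsLocalRing.closedPoint K)) hb congr($hab (IsLocalRing.closedPoint K))
    have h2 : a ≫ g₂ = b ≫ g₂ := ext_of_apply_closedPoint_eq q₂'
      (by rw [Category.assoc, pullback.lift_snd, pullback.lift_snd])
      (by rw [Category.assoc, pullback.lift_snd, pullback.lift_snd]) hpt
    calc t ≫ W.toScheme.fromSpecResidueField x ≫ W.ι ≫ r₁ ≫ f₂ = (u ≫ r₁) ≫ f₂ := by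
          simp only [u, Category.assoc]
      _ = a ≫ pullback.fst p β ≫ f₂ := (pullback.lift_fst_assoc _ _ _ _).symm
      _ = (a ≫ g₂) ≫ pullback.fst q₂ β := by rw [Category.assoc, pullback.lift_fst]
      _ = (b ≫ g₂) ≫ pullback.fst q₂ β := by rw [h2]
      _ = b ≫ pullback.fst p β ≫ f₂ := by rw [Category.assoc, pullback.lift_fst]
      _ = (u ≫ r₂) ≫ f₂ := pullback.lift_fst_assoc _ _ _ _
      _ = _ := by simp only [u, Category.assoc]
  have hcoeq : r₁ ≫ f₂ = r₂ ≫ f₂ := H05EGA4.DenseExt.ext_of_schDense (S3843.result r₁ V hVd) q₂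
    (by rw [Category.assoc, Category.assoc, hf₂, ← hf₁, reassoc_of% pullback.condition (f := f₁) (g := f₁)]) key
  let e : P₁ ⟶ P₂ := EffectiveEpi.desc f₁ f₂ fun g₁ g₂ h => by
    rw [← pullback.lift_fst g₁ g₂ h, Category.assoc, show pullback.fst f₁ f₁ ≫ f₂ = pullback.snd f₁ f₁ ≫ f₂ from hcoeq,
      ← Category.assoc, pullback.lift_snd]
  have hfe : f₁ ≫ e = f₂ := EffectiveEpi.fac f₁ f₂ _
  exact ⟨e, by rw [← cancel_epi f₁, reassoc_of% hfe, hf₁, hf₂], hfe⟩

end Groth.Agent.H29DoubleCover
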