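import Groth.Agent.H29DoubleCover.Through
import Groth.Agent.H29DoubleCover.Deck

/-!
# In genus one the fibres of a double cover of the line are the divisors of one pencil
-/

set_option autoImplicit false
set_option linter.style.haveILetI false

universe u

open CategoryTheory CategoryTheory.Limits AlgebraicGeometry TopologicalSpace
open Groth.Agent.H29RR

namespace Groth.Agent.H29DoubleCover

attribute [local instance 10000] H10Coh.hasSheafifyAb H10Coh.hasWeakSheafifyAb H10Coh.hasExtAb H10Coh.enoughInjAb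
attribute [local instance] Curv2.resAlgebra

variable {k : Type u} [Field k] {X : Scheme.{u}} [X.Over (Spec (CommRingCat.of k))] [IsAlgClosed k] [IsIntegral X]
  [IsProper (X ↘ Spec (CommRingCat.of k))] [Smooth (X ↘ Spec (CommRingCat.of k))]

theorem finrank_h0_of_deg_pos (hdim : topologicalKrullDim X = 1) (hg : Curv2.genus k X = 1) {M : X.Modules}
    (hM : PicF.IsInvertible M) (hd : 0 < Curv2.deg k X M 1) :
    (Module.finrank k (Coh.HH X M 0) : ℤ) = Curv2.deg k X M 1 := by
  have h00 := H29RR.finrank_h0_structure k X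
  haveI : Subsingleton (Coh.HH X M 1) := H29CurveDual.subsingleton_h1_of_deg (k := k) hdim hM (by
    rw [H29CurveDual.deg_omega_of_h0 (k := k) hdim h00, hg]
    simpa using hd)
  have hrr := riemann_roch (k := k) hdim.le M
  rw [Module.finrank_zero_of_subsingleton (M := Coh.HH X M 1), h00, hg] at hrr
  omega

/-- In genus one a module of degree one is the module of a point. -/
theorem exists_point_of_deg_one (hdim : topologicalKrullDim X = 1) (hg : Curv2.genus k X = 1) {M : X.Modules}
    (hM : PicF.IsInvertible M) (hd : Curv2.deg k X M 1 = 1) :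
    ∃ S : X, IsClosed ({S} : Set X) ∧
      Nonempty (CohB1.tensorMod (ClSub.idealMod (ptIdeal S)) M ≅ Coh.structureModule X) := by
  haveI := isNoetherian_of_proper (k := k) (X := X)
  have h1 : Module.finrank k (Coh.HH X M 0) = 1 := by
    have := finrank_h0_of_deg_pos (k := k) hdim hg hM (by omega)
    omega
  haveI : Nontrivial (Coh.HH X M 0) := Module.nontrivial_of_finrank_pos (R := k) (by omega)
  obtain ⟨x, hx⟩ := exists_ne (0 : Coh.HH X M 0)
  let v := sec M x
  have hv : v ≠ 0 := fun h => hx ((sec M).injective (h.trans (map_zero _).symm))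
  obtain ⟨S, hS⟩ : ∃ S, S ∉ H11Ample.gen M v := by
    by_contra hc
    push Not at hc
    have := deg_eq_zero_of_gen (k := k) hM v hc
    omega
  have hScl : IsClosed ({S} : Set X) := by
    rcases H29Curve.isClosed_singleton_or_eq_genericPoint hdim.le S with h | h
    · exact h
    · exact absurd (h ▸ genericPoint_mem_gen hM hv) hS
  refine ⟨S, hScl, ?_⟩
  have hI := H29CurveDual.isInvertible_pt (k := k) hdim hScl
  have hT := H11Ample.isInvertible_tensor hI hM
  have hdT : Curv2.deg k X (CohB1.tensorMod (ClSub.idealMod (ptIdeal S)) M) 1 = 0 := by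
    rw [H29CurveDual.deg_ptIdeal_tensor hdim hScl hM, hd]; rfl
  by_cases h0 : Module.finrank k (Coh.HH X (CohB1.tensorMod (ClSub.idealMod (ptIdeal S)) M) 0) = 0
  · exfalso
    obtain ⟨g, hgS⟩ := (h0_add_one_iff (k := k) hScl (finrank_residue_eq_one (k := k) hScl) hM
      (H29CurveDual.isCoh_of_isInvertible hI)).1 (by omega)
    obtain ⟨c, hc⟩ := exists_smul_eq_of_finrank_eq_one h1 hx ((sec M).symm g)
    have hg' : g = H10Coh.globA (A := k) (X := X) c • v := by
      rw [← (sec M).apply_symm_apply g, ← hc, sec_smul]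
    rw [H29CurveDual.mem_gen_iff_notMem hM, hg', H17.AssPts.germ_smul'] at hgS
    rw [H29CurveDual.mem_gen_iff_notMem hM, not_not] at hS
    exact hgS (Submodule.smul_mem _ _ hS)
  · haveI : Nontrivial (Coh.HH X (CohB1.tensorMod (ClSub.idealMod (ptIdeal S)) M) 0) :=
      Module.nontrivial_of_finrank_pos (R := k) (Nat.pos_of_ne_zero h0)
    exact (bounds_of_section (k := k) hdim.le hT inferInstance).2.2.2 hdT

/-- The fibre through a point `R` of a double cover of the line: it is `{R, S}` where `R + S` is in the class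
of the pencil. -/
theorem fibre_pair (hdim : topologicalKrullDim X = 1) (hg : Curv2.genus k X = 1)
    (f : X ⟶ CohB1.ProjSpace 1 k) [IsFinite f] [Flat f]
    (hf : f ≫ CohB1.ProjSpace.toSpec 1 k = X ↘ Spec (CommRingCat.of k)) (hr : ∀ y, f.finrank y = 2)
    {R : X} (hR : IsClosed ({R} : Set X)) :
    ∃ S : X, IsClosed ({S} : Set X) ∧ f S = f R ∧ (∀ y, f y = f R → y = R ∨ y = S) ∧
      Nonempty (CohB1.tensorMod (CohB1.tensorMod (ClSub.idealMod (ptIdeal R)) (ClSub.idealMod (ptIdeal S)))
        ((Scheme.Modules.pullback f).obj (Twist.twistProjSpace 1 k 1)) ≅ Coh.structureModule X) := by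
  haveI := isNoetherian_of_proper (k := k) (X := X)
  haveI : IsProper (CohB1.ProjSpace.toSpec 1 k) := H27Weil.isProper_toSpec 1 k
  have h00 := H29RR.finrank_h0_structure k X
  obtain ⟨hd, -, hsurj⟩ := pull_surjective (k := k) hdim h00 hg.ge f hf hr
  let O1 := Twist.twistProjSpace 1 k 1
  have hO1 : PicF.IsInvertible O1 := (H10Coh.Stab.isTwistFamily_projSpace 1 k).inv 1
  let L := (Scheme.Modules.pullback f).obj O1
  have hL : PicF.IsInvertible L := H11Ample.isInvertible_pullback f hO1
  change Curv2.deg k X L 1 = 2 at hd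
  have hIR := H29CurveDual.isInvertible_pt (k := k) hdim hR
  let M := CohB1.tensorMod (ClSub.idealMod (ptIdeal R)) L
  have hM : PicF.IsInvertible M := H11Ample.isInvertible_tensor hIR hL
  obtain ⟨S, hS, ⟨i⟩⟩ := exists_point_of_deg_one (k := k) hdim hg hM (by
    rw [H29CurveDual.deg_ptIdeal_tensor hdim hR hL, hd]; rfl)
  have hIS := H29CurveDual.isInvertible_pt (k := k) hdim hS
  let e : CohB1.tensorMod (CohB1.tensorMod (ClSub.idealMod (ptIdeal R)) (ClSub.idealMod (ptIdeal S))) L ≅
      Coh.structureModule X :=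
    PicGrp.tensorModIso (H10Coh.Tw.commIso _ _) (Iso.refl L) ≪≫ H10Coh.Tw.assoc _ _ _ ≪≫ i
  let u : Γ(CohB1.tensorMod (ClSub.idealMod (ptIdeal S)) M, ⊤) := i.inv.app ⊤ (H11Ample.one ⊤)
  have hu : ∀ y, y ∈ H11Ample.gen _ u := fun y => by
    rw [H11Ample.gen_iso]
    refine H11Ample.mem_gen_of_isGen (W := ⊤) ?_ (show y ∈ (⊤ : X.Opens) from trivial)
    have h0 : (homOfLE (le_top : (⊤ : X.Opens) ≤ ⊤)).op = 𝟙 _ := Subsingleton.elim _ _
    rw [h0, CategoryTheory.Functor.map_id]
    exact H11Ample.isGen_one (X := X) ⊤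
  let v : Γ(L, ⊤) := (ptIncl R L).app ⊤ ((ptIncl S M).app ⊤ u)
  obtain ⟨hoffS, hatS, -⟩ := H29CurveDual.ptIncl_stalks (k := k) hS (finrank_residue_eq_one (k := k) hS) hM hIS
  obtain ⟨hoffR, hatR, -⟩ := H29CurveDual.ptIncl_stalks (k := k) hR (finrank_residue_eq_one (k := k) hR) hL hIR
  have hvR : R ∉ H11Ample.gen L v := by
    rw [H29CurveDual.mem_gen_iff_notMem hL, not_not, ← hatR]
    exact ⟨_, germ_app _ _ _⟩
  have hvS : S ∉ H11Ample.gen L v := by
    by_cases h : S = R
    · rw [h]; exact hvR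
    · rw [H29CurveDual.mem_gen_iff_notMem hL, not_not, ← germ_app,
        H29CurveDual.mem_smul_top_iff _ _ (hoffR _ h), ← hatS]
      exact ⟨_, germ_app _ _ _⟩
  have hoff : ∀ y, y ≠ R → y ≠ S → y ∈ H11Ample.gen L v := fun y hyR hyS => by
    rw [H29CurveDual.mem_gen_iff_notMem hL, ← germ_app,
      H29CurveDual.mem_smul_top_iff _ _ (hoffR _ hyR), ← germ_app,
      H29CurveDual.mem_smul_top_iff _ _ (hoffS _ hyS),
      ← H29CurveDual.mem_gen_iff_notMem (H11Ample.isInvertible_tensor hIS hM)]
    exact hu _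
  have hv0 : (sec L).symm v ≠ 0 := fun h => by
    have hηR : genericPoint X ≠ R := fun h => H29CurveDual.not_isField_stalk_of_closed (k := k) hdim hR
      (h ▸ Field.toIsField X.functionField)
    have hηS : genericPoint X ≠ S := fun h => H29CurveDual.not_isField_stalk_of_closed (k := k) hdim hS
      (h ▸ Field.toIsField X.functionField)
    have hg := hoff _ hηR hηS
    rw [show v = 0 by rw [← (sec L).apply_symm_apply v, h, map_zero],
      H29CurveDual.mem_gen_iff_notMem hL, map_zero] at hg
    exact hg (Submodule.zero_mem _)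
  -- the sections vanishing at a zero `z` of `v` are the multiples of `v`
  have key : ∀ z, IsClosed ({z} : Set X) → z ∉ H11Ample.gen L v → ∀ g : Γ(L, ⊤),
      z ∉ H11Ample.gen L g ↔ (sec L).symm g ∈ Submodule.span k {(sec L).symm v} := by
    intro z hz hvz g
    have hIz := H29CurveDual.isInvertible_pt (k := k) hdim hz
    obtain ⟨-, hat, hvan⟩ := H29CurveDual.ptIncl_stalks (k := k) hz (finrank_residue_eq_one (k := k) hz) hL hIz
    have hmem : ∀ g : Γ(L, ⊤), z ∉ H11Ample.gen L g → (sec L).symm g ∈ vanishSub k z L := fun g hg => by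
      refine hvan _ ?_
      rw [AddEquiv.apply_symm_apply, hat]
      rwa [H29CurveDual.mem_gen_iff_notMem hL, not_not] at hg
    constructor
    · intro hgz
      have hfr : Module.finrank k (vanishSub k z L) = 1 := by
        rw [finrank_vanishSub (rank_one_of_isInvertible hL)]
        have := finrank_h0_of_deg_pos (k := k) hdim hg (H11Ample.isInvertible_tensor hIz hL)
          (by rw [H29CurveDual.deg_ptIdeal_tensor hdim hz hL, hd]; norm_num)
        rw [H29CurveDual.deg_ptIdeal_tensor hdim hz hL, hd] at this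
        omega
      obtain ⟨c, hc⟩ := exists_smul_eq_of_finrank_eq_one hfr
        (x := (⟨_, hmem v hvz⟩ : vanishSub k z L)) (fun h => hv0 (congrArg Subtype.val h)) ⟨_, hmem g hgz⟩
      exact Submodule.mem_span_singleton.2 ⟨c, congrArg Subtype.val hc⟩
    · intro hgz
      obtain ⟨c, hc⟩ := Submodule.mem_span_singleton.1 hgz
      have hg' : g = H10Coh.globA (A := k) (X := X) c • v := by
        rw [← (sec L).apply_symm_apply g, ← hc, sec_smul, AddEquiv.apply_symm_apply]
      rw [H29CurveDual.mem_gen_iff_notMem hL, not_not] at hvz ⊢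
      rw [hg', H17.AssPts.germ_smul']
      exact Submodule.smul_mem _ _ hvz
  have hcl : ∀ z, IsClosed ({z} : Set X) → IsClosed ({f z} : Set ↥(CohB1.ProjSpace 1 k)) := fun z hz =>
    Set.image_singleton ▸ f.isClosedMap _ hz
  have hfS : f S = f R := eq_of_gen_iff (hcl S hS) (hcl R hR) fun w => by
    have e := H11P1n.gen_pullTop f hO1 w
    rw [← not_iff_not]
    show S ∉ f ⁻¹ᵁ H11Ample.gen O1 w ↔ R ∉ f ⁻¹ᵁ H11Ample.gen O1 w
    rw [← e]
    exact (key S hS hvS _).trans (key R hR hvR _).symm
  refine ⟨S, hS, hfS, fun y hy => ?_, ⟨e⟩⟩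
  by_contra hc
  push Not at hc
  obtain ⟨w, hw⟩ := hsurj v
  have h1 := hoff y hc.1 hc.2
  have e := H11P1n.gen_pullTop f hO1 w
  rw [hw] at e
  rw [e] at h1 hvR
  exact hvR (show f R ∈ H11Ample.gen O1 w from hy ▸ h1)

/-- Inverses of one module are isomorphic. -/
theorem nonempty_iso_of_tensor_eq {A B L : X.Modules} (hL : PicF.IsInvertible L)
    (eA : CohB1.tensorMod A L ≅ Coh.structureModule X) (eB : CohB1.tensorMod B L ≅ Coh.structureModule X) :
    Nonempty (A ≅ B) := by
  obtain ⟨N, -, ⟨eN⟩⟩ := exists_inverse_comm hL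
  let key : ∀ C : X.Modules, (CohB1.tensorMod C L ≅ Coh.structureModule X) →
      (C ≅ CohB1.tensorMod (Coh.structureModule X) N) := fun C eC =>
    (SecTwist.unitorR C).symm ≪≫ PicGrp.tensorModIso (Iso.refl C) eN.symm ≪≫ (H10Coh.Tw.assoc C L N).symm ≪≫
      PicGrp.tensorModIso eC (Iso.refl N)
  exact ⟨key A eA ≪≫ (key B eB).symm⟩

end Groth.Agent.H29DoubleCover
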