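import Groth.Agent.H29DoubleCover.Hyperelliptic
import Groth.Agent.H17.QAffImm
import Groth.Agent.H17.Ample.GenAffine
import Groth.Agent.H22Alg.CurveAmple
import Groth.Agent.H11P1n.Mult
import Groth.Agent.H22Alg.CMField
import Groth.Agent.S13457
import Groth.Agent.S7640

/-!
# A very ample canonical module excludes double covers carrying it
-/

set_option autoImplicit false
set_option linter.style.haveILetI false
set_option linter.unusedSectionVars false
set_option backward.isDefEq.respectTransparency.types false

universe u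

open CategoryTheory CategoryTheory.Limits AlgebraicGeometry TopologicalSpace Opposite
open Groth.Agent.H29RR

namespace Groth.Agent.H29DoubleCover

attribute [local instance 10000] H10Coh.hasSheafifyAb H10Coh.hasWeakSheafifyAb H10Coh.hasExtAb H10Coh.enoughInjAb
attribute [local instance] Curv2.resAlgebra

variable {k : Type u} [Field k] {C P : Scheme.{u}} [C.Over (Spec (CommRingCat.of k))]
  [P.Over (Spec (CommRingCat.of k))] [IsProper (C ↘ Spec (CommRingCat.of k))]
  [IsProper (P ↘ Spec (CommRingCat.of k))] [IsIntegral C] [IsIntegral P]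

/-- A finite flat morphism of curves of rank two is dominant of residue degree two. -/
theorem residueDegree_of_finrank_two (hdim : topologicalKrullDim C = 1) (hdP : topologicalKrullDim P = 1)
    (h : C ⟶ P) [IsFinite h] [Flat h]
    (hh : h ≫ (P ↘ Spec (CommRingCat.of k)) = C ↘ Spec (CommRingCat.of k))
    (hr : ∀ y, h.finrank y = 2) :
    h (genericPoint C) = genericPoint P ∧ h.residueDegree (genericPoint C) = 2 := by
  haveI : JacobsonSpace C := LocallyOfFiniteType.jacobsonSpace (C ↘ Spec (CommRingCat.of k))
  haveI := isNoetherian_of_proper (k := k) (X := P)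
  have hη := apply_genericPoint hdP.le h (exists_ne_of_isFinite hdim h)
  haveI : IsDominant h := ⟨(dense_iff_closure_eq).2 (Set.eq_univ_of_univ_subset (by
    rw [← (genericPoint_spec P).def, ← hη]
    exact closure_mono (Set.singleton_subset_iff.2 ⟨_, rfl⟩)))⟩
  refine ⟨hη, ?_⟩
  rw [← H27FibreRank.finrank_genericPoint h (H27FibreRank.preimage_genericPoint (C ↘ Spec (CommRingCat.of k))
    (P ↘ Spec (CommRingCat.of k)) h hh (hdim.trans hdP.symm)), hr]

/-- A closed immersion has residue degree one. -/
theorem residueDegree_eq_one_of_isClosedImmersion {X Y : Scheme.{u}} (h : X ⟶ Y) [IsClosedImmersion h] (x : X) :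
    h.residueDegree x = 1 := by
  letI := (h.residueFieldMap x).hom.toAlgebra
  have hs : Function.Surjective (algebraMap (Y.residueField (h x)) (X.residueField x)) := by
    intro v
    obtain ⟨w, rfl⟩ := X.residue_surjective x v
    obtain ⟨u, rfl⟩ := h.stalkMap_surjective x w
    exact ⟨Y.residue (h x) u, congr($(Scheme.residue_residueFieldMap h x) u)⟩
  show Module.finrank (Y.residueField (h x)) (X.residueField x) = 1
  exact (AlgEquiv.ofBijective (Algebra.ofId (Y.residueField (h x)) (X.residueField x))
    ⟨(algebraMap (Y.residueField (h x)) (X.residueField x)).injective, hs⟩).toLinearEquiv.finrank_eq.symm.trans (Module.finrank_self _)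

/-- If a module of degree `g - 1` on the base has `g` sections and the curve has a very ample module of degree
`2g - 2` with `g` sections, there is no double cover. -/
theorem false_of_double_cover [Smooth (C ↘ Spec (CommRingCat.of k))]
    (hdim : topologicalKrullDim C = 1) (hdP : topologicalKrullDim P = 1)
    (h00 : Module.finrank k (Coh.HH C (Coh.structureModule C) 0) = 1)
    (h : C ⟶ P) [IsFinite h] [Flat h]
    (hh : h ≫ (P ↘ Spec (CommRingCat.of k)) = C ↘ Spec (CommRingCat.of k))
    (hr : ∀ y, h.finrank y = 2)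
    (N : P.Modules) (hN : PicF.IsInvertible N) (hNd : 0 < Curv2.deg k P N 1)
    (hNg : Curv2.deg k P N 1 + 1 = (Curv2.genus k C : ℤ))
    (hN0 : Curv2.genus k C ≤ Module.finrank k (Coh.HH P N 0))
    (A : C.Modules) (hA : PicF.IsInvertible A) (hAd : Curv2.deg k C A 1 = 2 * (Curv2.genus k C : ℤ) - 2)
    (hA0 : Curv2.genus k C ≤ Module.finrank k (Coh.HH C A 0))
    (hAva : ∀ x : C, ∃ v : Γ(A, ⊤), x ∈ H11Ample.gen A v ∧ IsAffineOpen (H11Ample.gen A v) ∧
      Subring.closure (Set.range ((C ↘ Spec (CommRingCat.of k)).appLE ⊤ (H11Ample.gen A v) le_top) ∪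
        {c | ∃ w : Γ(A, ⊤), A.presheaf.map (homOfLE (le_top : H11Ample.gen A v ≤ ⊤)).op w =
          c • A.presheaf.map (homOfLE (le_top : H11Ample.gen A v ≤ ⊤)).op v}) = ⊤) : False := by
  haveI := isNoetherian_of_proper (k := k) (X := C)
  haveI := isNoetherian_of_proper (k := k) (X := P)
  haveI := geometricallyConnected_of_h0 (k := k) (X := C) h00
  obtain ⟨hη, hrd⟩ := residueDegree_of_finrank_two hdim hdP h hh hr
  let p := C ↘ Spec (CommRingCat.of k)
  let q := P ↘ Spec (CommRingCat.of k)
  let L := (Scheme.Modules.pullback h).obj N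
  have hL : PicF.IsInvertible L := H11Ample.isInvertible_pullback h hN
  have hLd : Curv2.deg k C L 1 = 2 * (Curv2.genus k C : ℤ) - 2 := by
    have := S7640.result k C P hdim hdP h hh hη 1 N (rank_one_of_isInvertible hN)
    rw [hrd] at this
    rw [this]
    push_cast
    omega
  haveI := finite_HH (k := k) L hL 0
  haveI := finite_HH (k := k) N hN 0
  let T : Coh.HH P N 0 →ₗ[k] Coh.HH C L 0 :=
    { toFun := fun w => (sec L).symm (H11Ample.pullTop h (sec N w))
      map_add' := fun a b => by
        rw [← map_add]; congr 1; rw [map_add]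
        exact map_add (((Scheme.Modules.pullbackPushforwardAdjunction h).unit.app N).app ⊤).hom _ _
      map_smul' := fun c a => by
        apply (sec L).injective
        rw [RingHom.id_apply, AddEquiv.apply_symm_apply, sec_smul, sec_smul, AddEquiv.apply_symm_apply]
        refine (((Scheme.Modules.pullbackPushforwardAdjunction h).unit.app N).app_smul _ _).trans ?_
        refine congrArg (fun t : Γ(C, ⊤) => t • H11Ample.pullTop h (sec N a)) ?_
        show h.app ⊤ (ProjUP.toGlobal q c) = ProjUP.toGlobal p c
        rw [show p = h ≫ q from hh.symm, ProjUP.toGlobal, ProjUP.toGlobal, Scheme.Hom.comp_appTop]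
        rfl }
  have hTi : Function.Injective T := (injective_iff_map_eq_zero T).2 fun w hw => by
    by_contra hne
    have hne' : sec N w ≠ 0 := fun h0 => hne ((sec N).injective (h0.trans (map_zero _).symm))
    have h1 : genericPoint C ∈ H11Ample.gen L (H11Ample.pullTop h (sec N w)) := by
      rw [H11P1n.gen_pullTop h hN]
      show h (genericPoint C) ∈ H11Ample.gen N (sec N w)
      rw [hη]
      exact H29RR.genericPoint_mem_gen hN hne'
    have h2 : H11Ample.pullTop h (sec N w) = 0 := by
      have := congrArg (sec L) hw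
      rwa [map_zero, show T w = (sec L).symm (H11Ample.pullTop h (sec N w)) from rfl, AddEquiv.apply_symm_apply] at this
    rw [h2, H29CurveDual.mem_gen_iff_notMem hL, map_zero] at h1
    exact h1 (Submodule.zero_mem _)
  have hTle := LinearMap.finrank_le_finrank_of_injective hTi
  obtain ⟨eL⟩ := S13457.result k C hdim L hL hLd (hN0.trans hTle)
  obtain ⟨eA⟩ := S13457.result k C hdim A hA hAd hA0
  let e : L ≅ A := eL ≪≫ eA.symm
  have hΩ : Module.finrank k (Coh.HH C L 0) = Curv2.genus k C := by
    have hrr := riemann_roch (k := k) hdim.le L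
    rw [h00, hLd, H29CurveDual.finrank_h0_congr (k := k) eL 1,
      H29CurveDual.finrank_h1_omega (k := k) hdim, h00] at hrr
    omega
  have hTs := (LinearMap.injective_iff_surjective_of_finrank_eq_finrank
    (le_antisymm hTle (hΩ.le.trans hN0))).1 hTi
  have hpull : ∀ v : Γ(A, ⊤), ∃ w : Γ(N, ⊤), e.hom.app ⊤ (H11Ample.pullTop h w) = v := fun v => by
    obtain ⟨w, hw⟩ := hTs ((sec L).symm (e.inv.app ⊤ v))
    refine ⟨sec N w, ?_⟩
    rw [show H11Ample.pullTop h (sec N w) = e.inv.app ⊤ v from (sec L).symm.injective hw]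
    exact H22Alg.CMField.hom_inv_apply e ⊤ v
  have hNA : CohB1.IsAmple N := H22Alg.CurveAmple.isAmple_of_deg_pos (k := k) hdP hN hNd
  have hsurjh : Function.Surjective h := by
    intro y
    have hcl : IsClosed (Set.range h) := h.isClosedMap.isClosed_range
    have : Set.range h = Set.univ := Set.eq_univ_of_univ_subset (by
      rw [← (genericPoint_spec P).def, ← hη]
      exact closure_minimal (Set.singleton_subset_iff.2 ⟨_, rfl⟩) hcl)
    exact this.ge (Set.mem_univ y)
  have hloc : ∀ y : P, ∃ V : P.Opens, y ∈ V ∧ IsClosedImmersion (h ∣_ V) := by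
    intro y
    obtain ⟨x, rfl⟩ := hsurjh y
    obtain ⟨v, hxv, hUaff, hgen⟩ := hAva x
    obtain ⟨w, hw⟩ := hpull v
    let V := H11Ample.gen N w
    have hUV : H11Ample.gen A v = h ⁻¹ᵁ V := by
      rw [← hw, H11Ample.gen_iso, H11P1n.gen_pullTop h hN]
    refine ⟨V, hUV.le hxv, H17.QAffImm.isClosedImmersion_morphismRestrict h hUaff
      (H17.GenAffine.isAffineOpen_gen q hNA w) hUV ?_⟩
    intro b
    let R := (h.appLE V (H11Ample.gen A v) hUV.le).hom.range
    suffices hR : (⊤ : Subring Γ(C, H11Ample.gen A v)) ≤ R from hR (Subring.mem_top b)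
    rw [← hgen, Subring.closure_le]
    rintro c (⟨a, rfl⟩ | ⟨u, hu⟩)
    · refine ⟨q.appLE ⊤ V le_top a, ?_⟩
      have hc := Scheme.Hom.appLE_comp_appLE h q ⊤ V (H11Ample.gen A v) le_top hUV.le
      have key : ∀ (g : C ⟶ Spec (CommRingCat.of k)) (hg : g = h ≫ q), g.appLE ⊤ (H11Ample.gen A v) le_top a =
          h.appLE V (H11Ample.gen A v) hUV.le (q.appLE ⊤ V le_top a) := by
        rintro g rfl
        exact (congr($hc a)).symm
      exact (key p hh.symm).symm
    · obtain ⟨u', rfl⟩ := hpull u
      obtain ⟨cN, hcN⟩ := H11Ample.exists_coeff (H11Ample.isGen_gen (L := N) w)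
        (N.presheaf.map (homOfLE (le_top : V ≤ ⊤)).op u')
      refine ⟨cN, ?_⟩
      have h1 := congrArg (fun s => A.presheaf.map (homOfLE hUV.le).op (e.hom.app (h ⁻¹ᵁ V)
        (OmegaSh.pullSect h N V s))) hcN
      simp only [OmegaSh.pullSect_smul, H11Tilde.pullSect_res, Scheme.Modules.Hom.app_smul,
        Scheme.Modules.map_smul] at h1
      have hnat : ∀ s : Γ(N, ⊤), A.presheaf.map (homOfLE hUV.le).op (e.hom.app (h ⁻¹ᵁ V)
          (((Scheme.Modules.pullback h).obj N).presheaf.map (homOfLE (h.preimage_mono (le_top : V ≤ ⊤))).op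
            (OmegaSh.pullSect h N ⊤ s))) =
          A.presheaf.map (homOfLE (le_top : H11Ample.gen A v ≤ ⊤)).op (e.hom.app ⊤ (H11Ample.pullTop h s)) := fun s => by
        rw [H11Tilde.app_map_apply]
        exact H10Coh.mres_mres A _ _ _
      rw [hnat, hnat] at h1
      rw [h1, hw] at hu
      exact ((H11Ample.isGen_gen (L := A) v).bijective le_rfl).1 (by
        beta_reduce
        rw [H10Coh.mres_self]
        exact hu)
  choose V hV hVc using hloc
  haveI : IsClosedImmersion h := (IsZariskiLocalAtTarget.iff_of_iSup_eq_top (P := @IsClosedImmersion) V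
    (eq_top_iff.2 fun y _ => Opens.mem_iSup.2 ⟨y, hV y⟩)).2 hVc
  rw [residueDegree_eq_one_of_isClosedImmersion] at hrd
  exact absurd hrd (by norm_num)

end Groth.Agent.H29DoubleCover
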