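import Groth.Agent.H29DoubleCover.NotHyperelliptic
import Groth.Agent.H14Plane.Genus
import Groth.Agent.H29CurveDual.VADescent
import Groth.Agent.H29CurveDual.Canonical
import Groth.Agent.H10Coh.Stab.TwistInt
import Groth.Agent.H02CA.GM.UType
import Groth.Agent.H29GenusOne.SingularGen
import Groth.Agent.H27HW.Degree

/-!
# The canonical module of a smooth plane curve
-/

set_option autoImplicit false
set_option linter.style.haveILetI false
set_option linter.unusedSectionVars false
set_option backward.isDefEq.respectTransparency.types false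

universe u

open CategoryTheory CategoryTheory.Limits AlgebraicGeometry TopologicalSpace Opposite
open Groth.Agent.H11Tilde Groth.Agent.H11Ample Groth.Agent.H11Proj

namespace Groth.Agent.H29DoubleCover

attribute [local instance 10000] H10Coh.hasSheafifyAb H10Coh.hasWeakSheafifyAb H10Coh.hasExtAb H10Coh.enoughInjAb

variable {k : Type u} [Field k]

/-- Powers of the coordinates, restricted to a closed subscheme of projective space, generate on affine loci
whose functions come from scalars and ratios. -/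
theorem exists_sec_coordPow {n : ℕ} {X : Scheme.{u}} {q : X ⟶ Spec (CommRingCat.of k)}
    (r : X ⟶ CohB1.ProjSpace n k) [IsClosedImmersion r] (hr : r ≫ CohB1.ProjSpace.toSpec n k = q)
    (m : ℕ) (x : X) :
    ∃ v : Γ((Scheme.Modules.pullback r).obj (CohB1.tensorPow (Twist.twistProjSpace n k 1) (m + 1)), ⊤),
      x ∈ gen _ v ∧ IsAffineOpen (gen _ v) ∧
      Subring.closure (Set.range (q.appLE ⊤ (gen _ v) le_top) ∪
        {c | ∃ w : Γ((Scheme.Modules.pullback r).obj (CohB1.tensorPow (Twist.twistProjSpace n k 1) (m + 1)), ⊤),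
          ((Scheme.Modules.pullback r).obj (CohB1.tensorPow (Twist.twistProjSpace n k 1) (m + 1))).presheaf.map
              (homOfLE (le_top : gen _ v ≤ ⊤)).op w =
            c • ((Scheme.Modules.pullback r).obj (CohB1.tensorPow (Twist.twistProjSpace n k 1) (m + 1))).presheaf.map
              (homOfLE (le_top : gen _ v ≤ ⊤)).op v}) = ⊤ := by
  obtain ⟨l, hl⟩ := SepPts.exists_chart (r x)
  let O1 := Twist.twistProjSpace n k 1
  have hO1 : PicF.IsInvertible O1 := isInvertible_twist
  let L := (Scheme.Modules.pullback r).obj (CohB1.tensorPow O1 (m + 1))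
  let v : Γ(L, ⊤) := pullTop r (spow (ProjUP.coord n k l) (m + 1))
  have hgen : gen L v = r ⁻¹ᵁ SepPts.U l :=
    (H11P1n.gen_pullTop r (isInvertible_tensorPow hO1 _) _).trans
      (congrArg (r ⁻¹ᵁ ·) ((gen_spow hO1 _ _ (Nat.succ_pos m)).trans (gen_coord l)))
  refine ⟨v, hgen.ge hl, hgen.symm ▸ (SepPts.isAffineOpen_U l).preimage r, ?_⟩
  suffices key : ∀ G : X.Opens, G = r ⁻¹ᵁ SepPts.U l →
      Subring.closure (Set.range (q.appLE ⊤ G le_top) ∪
        {c | ∃ w : Γ(L, ⊤), L.presheaf.map (homOfLE (le_top : G ≤ ⊤)).op w =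
          c • L.presheaf.map (homOfLE (le_top : G ≤ ⊤)).op v}) = ⊤ from key _ hgen
  rintro G rfl
  refine eq_top_iff.2 fun b hb' => ?_
  clear hb'
  obtain ⟨a, rfl⟩ : ∃ a, r.app (SepPts.U l) a = b := r.app_surjective _ (SepPts.isAffineOpen_U l) b
  obtain ⟨P, rfl⟩ := SepPts.γ_surjective l a
  induction P using MvPolynomial.induction_on with
  | C c =>
    refine Subring.subset_closure (Or.inl ⟨(Scheme.ΓSpecIso (CommRingCat.of k)).inv c, ?_⟩)
    rw [← RingHom.comp_apply (SepPts.γ l), ← SepPts.κ_eq]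
    subst hr
    simp only [Scheme.Hom.appLE, Scheme.Hom.comp_app]
    refine Eq.trans ?_ (congr($(r.naturality (homOfLE (le_top : SepPts.U l ≤ ⊤)).op)
      (ProjUP.toGlobal (CohB1.ProjSpace.toSpec n k) c))).symm
    rfl
  | add P Q hP hQ => rw [map_add, map_add]; exact add_mem hP hQ
  | mul_X P j hP =>
    rw [map_mul, map_mul]
    refine mul_mem hP (Subring.subset_closure (Or.inr ⟨pullTop r (tm (spow (ProjUP.coord n k l) m)
      (ProjUP.coord n k j.1)), ?_⟩))
    rw [SepPts.γ_X]
    refine (pullTop_res r _ (SepPts.U l)).trans ?_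
    refine Eq.trans ?_ (congrArg (_ • ·) (pullTop_res r (spow (ProjUP.coord n k l) (m + 1)) (SepPts.U l)).symm)
    refine Eq.trans ?_ (OmegaSh.pullSect_smul r _ (SepPts.U l) _ _)
    refine congrArg (OmegaSh.pullSect r _ (SepPts.U l)) ?_
    change (CohB1.tensorMod (CohB1.tensorPow O1 m) O1).presheaf.map _ (tm _ _) =
      _ • (CohB1.tensorMod (CohB1.tensorPow O1 m) O1).presheaf.map _ (tm _ _)
    rw [tm_res, tm_res, show O1.presheaf.map (homOfLE (le_top : SepPts.U l ≤ ⊤)).op (ProjUP.coord n k j.1) =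
      SepPts.t l j.1 • O1.presheaf.map (homOfLE (le_top : SepPts.U l ≤ ⊤)).op (ProjUP.coord n k l) from
      globalSec_eq_ratio_smul (CohB1.polyGrading n k) (ProjSpace.X_mem n k l) (ProjSpace.X_mem n k j.1)]
    exact tm_smul_right _ _ _

/-- The invariants of a smooth plane curve of degree `m + 4`. -/
theorem plane_curve_facts (m : ℕ) (f : LefPen.Form 2 k (m + 4)) (hf : f ≠ 0)
    [inst : ((LefPen.hypIdeal f).subscheme).Over (Spec (CommRingCat.of k))]
    (hinst : (LefPen.hypIdeal f).subscheme ↘ Spec (CommRingCat.of k) =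
      (LefPen.hypIdeal f).subschemeι ≫ CohB1.ProjSpace.toSpec 2 k)
    [Smooth ((LefPen.hypIdeal f).subscheme ↘ Spec (CommRingCat.of k))] :
    IsProper ((LefPen.hypIdeal f).subscheme ↘ Spec (CommRingCat.of k)) ∧
      IsIntegral (LefPen.hypIdeal f).subscheme ∧
      topologicalKrullDim (LefPen.hypIdeal f).subscheme = 1 ∧
      Module.finrank k (Coh.HH _ (Coh.structureModule (LefPen.hypIdeal f).subscheme) 0) = 1 ∧
      Curv2.genus k (LefPen.hypIdeal f).subscheme = (m + 3).choose 2 := by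
  have hf' : f.1 ≠ 0 := fun h => hf (Subtype.ext h)
  obtain ⟨h00, -, hg⟩ := H14Plane.plane_curve k (m + 4) (by omega) f hf' hinst
  let C := (LefPen.hypIdeal f).subscheme
  let p := C ↘ Spec (CommRingCat.of k)
  haveI : IsProper (CohB1.ProjSpace.toSpec 2 k) := H27Weil.isProper_toSpec 2 k
  haveI hp : IsProper p := by
    show IsProper (C ↘ Spec (CommRingCat.of k))
    rw [hinst]
    infer_instance
  let Gs : ∀ _ : Fin 1, LefPen.Form 2 k (m + 4) := fun _ => f
  have hci : LefPen.ciIdeal Gs = LefPen.hypIdeal f := by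
    unfold LefPen.ciIdeal
    exact le_antisymm (iSup_le fun _ => le_rfl) (le_iSup (fun _ : Fin 1 => LefPen.hypIdeal f) 0)
  have hdimLE : H10Coh.CI.DimLE Gs := fun x hx => by
    obtain ⟨y, hy, hyq⟩ := H22Alg.ProjDim.exists_bot_point k 2
    have hlt : y < x := by
      show y.asHomogeneousIdeal.toIdeal < x.asHomogeneousIdeal.toIdeal
      rw [hy]
      refine bot_lt_iff_ne_bot.2 fun h => hf' ?_
      have hG : f.1 ∈ x.asHomogeneousIdeal.toIdeal := hx 0
      rw [h] at hG
      exact (Submodule.mem_bot _).1 hG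
    have h1 := H22Alg.ProjDim.qdim_lt k 2 hlt
    rw [hyq] at h1
    omega
  have hconn := H10Coh.CI.geometricallyConnected_ci (G := Gs) (by norm_num) (fun _ => by omega) hdimLE (by norm_num)
  have hdim := H10Coh.CI.dim_subscheme_le hdimLE
  rw [hci] at hconn hdim
  haveI : GeometricallyConnected p := by
    show GeometricallyConnected (C ↘ Spec (CommRingCat.of k))
    rw [hinst]
    exact hconn
  haveI hint : IsIntegral C := isIntegral_of_smooth_connected p
  have hg' : Curv2.genus k C = (m + 3).choose 2 := by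
    rw [Nat.choose_two_right]
    exact hg.trans (by rfl)
  refine ⟨hp, hint, ?_, h00, hg'⟩
  have hd1 : topologicalKrullDim C ≤ 1 := by exact_mod_cast hdim
  refine le_antisymm hd1 ?_
  by_contra hlt
  have h0 : topologicalKrullDim C ≤ ((0 : ℕ) : WithBot ℕ∞) := by
    rw [not_le] at hlt
    revert hlt
    generalize topologicalKrullDim C = d
    intro hlt
    induction d with
    | bot => exact bot_le
    | coe e =>
      refine WithBot.coe_le_coe.2 (le_of_eq (ENat.lt_one_iff_eq_zero.1 (WithBot.coe_lt_coe.1 hlt)))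
  haveI := H29RR.isNoetherian_of_proper (k := k) (X := C)
  haveI : Subsingleton (Coh.HH C (Coh.structureModule C) 1) := LeadVan.subsingleton_H_of_dim_le 0 h0 _ 1 one_pos
  have h0g : Curv2.genus k C = 0 := Module.finrank_zero_of_subsingleton
  have := Nat.choose_pos (show 2 ≤ m + 3 by omega)
  omega

/-- Euler characteristic and sections of the restriction of an invertible module to a closed subscheme. -/
theorem euler_h0_restrict {Q C : Scheme.{u}} [Q.Over (Spec (CommRingCat.of k))] [C.Over (Spec (CommRingCat.of k))]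
    [IsProper (Q ↘ Spec (CommRingCat.of k))] [IsNoetherian Q]
    (ι : C ⟶ Q) [IsClosedImmersion ι] (hι : ι ≫ (Q ↘ Spec (CommRingCat.of k)) = C ↘ Spec (CommRingCat.of k))
    {N : Q.Modules} (hN : PicF.IsInvertible N) {J : Q.Modules} (eI : CohB1.tensorMod (ClSub.idealMod ι.ker) N ≅ J)
    (hJ : Coh.IsCoh J) (hJ0 : Subsingleton (Coh.HH Q J 0)) :
    Curv2.euler k Q N = Curv2.euler k Q J + Curv2.euler k C ((Scheme.Modules.pullback ι).obj N) ∧
      Module.finrank k (Coh.HH Q N 0) ≤ Module.finrank k (Coh.HH C ((Scheme.Modules.pullback ι).obj N) 0) := by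
  have hA : PicF.IsInvertible ((Scheme.Modules.pullback ι).obj N) := isInvertible_pullback ι hN
  haveI := LocallyOfFiniteType.isLocallyNoetherian ι
  haveI := (isCoh_of_isInvertible hA).1
  have hS := H10Coh.CI.closedSeq_shortExact ι hN
  have h3 : Coh.IsCoh ((Coh.push ι).obj ((Scheme.Modules.pullback ι).obj N)) :=
    H10Coh.isCoh_push_of_isFinite ι _ (isCoh_of_isInvertible hA)
  refine ⟨?_, ?_⟩
  · have h1' : Coh.IsCoh (H10Coh.CI.closedSeq ι hN).X₁ := H10Coh.isCoh_of_iso eI.symm hJ
    have h2' : Coh.IsCoh (H10Coh.CI.closedSeq ι hN).X₂ := isCoh_of_isInvertible hN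
    have h3' : Coh.IsCoh (H10Coh.CI.closedSeq ι hN).X₃ := h3
    have key := H25Euler.euler_add (k := k) hS h1' h2' h3'
    rw [← H25Euler.euler_congr eI, ← H28Int.Push.euler_push k ι hι]
    exact key
  · rw [← H28Int.Push.finrank_HH_push k ι hι _ 0]
    haveI := H10Coh.finite_HH_proper k Q _ h3 0
    let T : Coh.HH Q N 0 →ₗ[k] Coh.HH Q ((Coh.push ι).obj ((Scheme.Modules.pullback ι).obj N)) 0 :=
      Canon.HHlin k (H10Coh.CI.closedSeq ι hN).g 0
    refine LinearMap.finrank_le_finrank_of_injective (f := T) ((injective_iff_map_eq_zero T).2 fun x hx => ?_)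
    obtain ⟨y, rfl⟩ := LeadFF.exists_Hm_f hS 0 x hx
    haveI : Subsingleton (Coh.HH Q (H10Coh.CI.closedSeq ι hN).X₁ 0) :=
      H10Coh.subsingleton_HH_of_iso eI.symm 0 hJ0
    rw [Subsingleton.elim y 0]
    exact map_zero _

/-- The canonical module of a smooth plane curve of degree `m + 4`: `O(m + 1)`. -/
theorem plane_curve_canonical (m : ℕ) (f : LefPen.Form 2 k (m + 4)) (hf : f ≠ 0)
    [inst : ((LefPen.hypIdeal f).subscheme).Over (Spec (CommRingCat.of k))]
    (hinst : (LefPen.hypIdeal f).subscheme ↘ Spec (CommRingCat.of k) =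
      (LefPen.hypIdeal f).subschemeι ≫ CohB1.ProjSpace.toSpec 2 k)
    [Smooth ((LefPen.hypIdeal f).subscheme ↘ Spec (CommRingCat.of k))] :
    ∃ A : (LefPen.hypIdeal f).subscheme.Modules, PicF.IsInvertible A ∧
      Curv2.deg k _ A 1 = 2 * (Curv2.genus k (LefPen.hypIdeal f).subscheme : ℤ) - 2 ∧
      Curv2.genus k (LefPen.hypIdeal f).subscheme ≤ Module.finrank k (Coh.HH _ A 0) ∧
      ∀ x : (LefPen.hypIdeal f).subscheme, ∃ v : Γ(A, ⊤), x ∈ gen A v ∧ IsAffineOpen (gen A v) ∧
        Subring.closure (Set.range (((LefPen.hypIdeal f).subscheme ↘ Spec (CommRingCat.of k)).appLE ⊤ (gen A v) le_top) ∪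
          {c | ∃ w : Γ(A, ⊤), A.presheaf.map (homOfLE (le_top : gen A v ≤ ⊤)).op w =
            c • A.presheaf.map (homOfLE (le_top : gen A v ≤ ⊤)).op v}) = ⊤ := by
  obtain ⟨hp, hint, hdim, h00, hg⟩ := plane_curve_facts m f hf hinst
  haveI := hint
  haveI := hp
  have hf' : f.1 ≠ 0 := fun h => hf (Subtype.ext h)
  let I := LefPen.hypIdeal f
  let C := I.subscheme
  let ι := I.subschemeι
  let Q := CohB1.ProjSpace 2 k
  haveI : IsProper (Q ↘ Spec (CommRingCat.of k)) := H27Weil.isProper_toSpec 2 k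
  haveI := H28Int.isNoetherian k (X := Q)
  haveI := H29RR.isNoetherian_of_proper (k := k) (X := C)
  let N := CohB1.tensorPow (Twist.twistProjSpace 2 k 1) (m + 1)
  have hN : PicF.IsInvertible N := isInvertible_tensorPow isInvertible_twist _
  let A := (Scheme.Modules.pullback ι).obj N
  have hA : PicF.IsInvertible A := isInvertible_pullback ι hN
  refine ⟨A, hA, ?_⟩
  have hTw := H10Coh.Stab.isTwistFamily_projSpace 2 k
  obtain ⟨eN⟩ := hTw.nonempty_tensorPow (m + 1)
  obtain ⟨eI⟩ : Nonempty (CohB1.tensorMod (ClSub.idealMod ι.ker) N ≅ Twist.twistProjSpace 2 k (-3)) := by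
    obtain ⟨e0⟩ := H10Coh.CI.nonempty_idealMod_hypIdeal f hf'
    obtain ⟨e1⟩ := hTw.add (-((m + 4 : ℕ) : ℤ)) ((m + 1 : ℕ) : ℤ)
    rw [Scheme.IdealSheafData.ker_subschemeι]
    exact ⟨PicGrp.tensorModIso e0 eN ≪≫ e1 ≪≫ eqToIso (congrArg (Twist.twistProjSpace 2 k) (by push_cast; ring))⟩
  obtain ⟨hadd, hle⟩ := euler_h0_restrict ι hinst.symm hN eI
    (isCoh_of_isInvertible (H22Alg.RegSheaf.isInvertible_twistProjSpace 2 k _))
    (H10Coh.Pn.subsingleton_HH_Od 0 (by omega) (by omega))
  rw [H25Euler.euler_congr eN, H17.Genus1.euler_twist, H17.Genus1.euler_twist] at hadd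
  have hc : Ring.choose ((-3 : ℤ) + 2) 2 = 1 := by
    rw [show (-3 : ℤ) + 2 = -((1 : ℕ) : ℤ) by norm_num, Ring.choose_neg,
      show ((1 : ℕ) : ℤ) + ((2 : ℕ) : ℤ) - 1 = ((2 : ℕ) : ℤ) by norm_num, Ring.choose_natCast]
    simp [Units.smul_def, Int.negOnePow_even (2 : ℤ) (by decide)]
  rw [hc, show ((m + 1 : ℕ) : ℤ) + 2 = ((m + 3 : ℕ) : ℤ) by push_cast; ring, Ring.choose_natCast] at hadd
  refine ⟨?_, ?_, fun x => exists_sec_coordPow ι hinst.symm m x⟩
  · have hadd' : ((m + 1 : ℕ) : ℤ) = m + 1 := by push_cast; ring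
    change Curv2.deg k C ((Scheme.Modules.pullback ι).obj N) 1 = 2 * (Curv2.genus k C : ℤ) - 2
    rw [H29RR.deg_def, H29RR.euler_eq_sub hdim.le (Coh.structureModule C), h00]
    have hgen : (Module.finrank k (Coh.HH C (Coh.structureModule C) 1) : ℤ) = ((m + 3).choose 2 : ℕ) := by
      exact_mod_cast hg
    have hg' : (Curv2.genus k C : ℤ) = ((m + 3).choose 2 : ℕ) := by exact_mod_cast hg
    rw [hgen, hg']
    have hadd2 : (((m + 3).choose 2 : ℕ) : ℤ) = 1 + Curv2.euler k C ((Scheme.Modules.pullback ι).obj N) := hadd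
    push_cast at hadd2 ⊢
    linarith
  · rw [hg]
    have h0 : Module.finrank k (Coh.HH Q N 0) = (m + 3).choose 2 :=
      (H29RR.hhIso (k := k) eN 0).finrank_eq.trans (H02CA.GM.finrank_h0_nat' 2 (m + 1))
    exact h0 ▸ hle

end Groth.Agent.H29DoubleCover
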