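import Groth.Agent.H29DoubleCover.NotHyperelliptic

/-!
# A morphism through which very ample sections factor is a closed immersion
-/

set_option autoImplicit false
set_option linter.style.haveILetI false
set_option linter.unusedSectionVars false
set_option backward.isDefEq.respectTransparency.types false

universe u

open CategoryTheory CategoryTheory.Limits AlgebraicGeometry TopologicalSpace Opposite

namespace Groth.Agent.H29DoubleCover

attribute [local instance 10000] H10Coh.hasSheafifyAb H10Coh.hasWeakSheafifyAb H10Coh.hasExtAb H10Coh.enoughInjAb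

variable {k : Type u} [Field k] {C P : Scheme.{u}} [C.Over (Spec (CommRingCat.of k))]
  [P.Over (Spec (CommRingCat.of k))] [IsProper (C ↘ Spec (CommRingCat.of k))]
  [IsProper (P ↘ Spec (CommRingCat.of k))]

/-- If the sections of a very ample module all come from an ample module below a surjective morphism, the
morphism is a closed immersion. -/
theorem isClosedImmersion_of_pullback_sections (h : C ⟶ P) [IsFinite h]
    (hh : h ≫ (P ↘ Spec (CommRingCat.of k)) = C ↘ Spec (CommRingCat.of k)) (hsurjh : Function.Surjective h)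
    {N : P.Modules} (hN : PicF.IsInvertible N) (hNA : CohB1.IsAmple N) {A : C.Modules}
    (e : (Scheme.Modules.pullback h).obj N ≅ A)
    (hpull : ∀ v : Γ(A, ⊤), ∃ w : Γ(N, ⊤), e.hom.app ⊤ (H11Ample.pullTop h w) = v)
    (hAva : ∀ x : C, ∃ v : Γ(A, ⊤), x ∈ H11Ample.gen A v ∧ IsAffineOpen (H11Ample.gen A v) ∧
      Subring.closure (Set.range ((C ↘ Spec (CommRingCat.of k)).appLE ⊤ (H11Ample.gen A v) le_top) ∪
        {c | ∃ w : Γ(A, ⊤), A.presheaf.map (homOfLE (le_top : H11Ample.gen A v ≤ ⊤)).op w =
          c • A.presheaf.map (homOfLE (le_top : H11Ample.gen A v ≤ ⊤)).op v}) = ⊤) : IsClosedImmersion h := by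
  let p := C ↘ Spec (CommRingCat.of k)
  let q := P ↘ Spec (CommRingCat.of k)
  have hloc : ∀ y : P, ∃ V : P.Opens, y ∈ V ∧ IsClosedImmersion (h ∣_ V) := by
    intro y
    obtain ⟨x, rfl⟩ := hsurjh y
    obtain ⟨v, hxv, hUaff, hgen⟩ := hAva x
    obtain ⟨w, hw⟩ := hpull v
    let V := H11Ample.gen N w
    have hUV : H11Ample.gen A v = h ⁻¹ᵁ V := by
      rw [← hw, H11Ample.gen_iso, H11P1n.gen_pullTop h hN]
    refine ⟨V, hUV.le hxv, H17.QAffImm.isClosedImmersion_morphismRestrict h hUaff
      (H17.GenAffine.isAffineOpen_gen q hNA w) hUV ?_⟩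
    intro b
    let R := (h.appLE V (H11Ample.gen A v) hUV.le).hom.range
    suffices hR : (⊤ : Subring Γ(C, H11Ample.gen A v)) ≤ R from hR (Subring.mem_top b)
    rw [← hgen, Subring.closure_le]
    rintro c (⟨a, rfl⟩ | ⟨u, hu⟩)
    · refine ⟨q.appLE ⊤ V le_top a, ?_⟩
      have hc := Scheme.Hom.appLE_comp_appLE h q ⊤ V (H11Ample.gen A v) le_top hUV.le
      have key : ∀ (g : C ⟶ Spec (CommRingCat.of k)) (hg : g = h ≫ q), g.appLE ⊤ (H11Ample.gen A v) le_top a =
          h.appLE V (H11Ample.gen A v) hUV.le (q.appLE ⊤ V le_top a) := by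
        rintro g rfl
        exact (congr($hc a)).symm
      exact (key p hh.symm).symm
    · obtain ⟨u', rfl⟩ := hpull u
      obtain ⟨cN, hcN⟩ := H11Ample.exists_coeff (H11Ample.isGen_gen (L := N) w)
        (N.presheaf.map (homOfLE (le_top : V ≤ ⊤)).op u')
      refine ⟨cN, ?_⟩
      have h1 := congrArg (fun s => A.presheaf.map (homOfLE hUV.le).op (e.hom.app (h ⁻¹ᵁ V)
        (OmegaSh.pullSect h N V s))) hcN
      simp only [OmegaSh.pullSect_smul, H11Tilde.pullSect_res, Scheme.Modules.Hom.app_smul,
        Scheme.Modules.map_smul] at h1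
      have hnat : ∀ s : Γ(N, ⊤), A.presheaf.map (homOfLE hUV.le).op (e.hom.app (h ⁻¹ᵁ V)
          (((Scheme.Modules.pullback h).obj N).presheaf.map (homOfLE (h.preimage_mono (le_top : V ≤ ⊤))).op
            (OmegaSh.pullSect h N ⊤ s))) =
          A.presheaf.map (homOfLE (le_top : H11Ample.gen A v ≤ ⊤)).op (e.hom.app ⊤ (H11Ample.pullTop h s)) := fun s => by
        rw [H11Tilde.app_map_apply]
        exact H10Coh.mres_mres A _ _ _
      rw [hnat, hnat] at h1
      rw [h1, hw] at hu
      exact ((H11Ample.isGen_gen (L := A) v).bijective le_rfl).1 (by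
        beta_reduce
        rw [H10Coh.mres_self]
        exact hu)
  choose V hV hVc using hloc
  exact (IsZariskiLocalAtTarget.iff_of_iSup_eq_top (P := @IsClosedImmersion) V
    (eq_top_iff.2 fun y _ => Opens.mem_iSup.2 ⟨y, hV y⟩)).2 hVc

open Groth.Agent.H29RR in
/-- Pulling back sections along a dominant morphism is bijective if there are no more sections above. -/
theorem exists_pullTop_eq [IsIntegral C] [IsIntegral P] (h : C ⟶ P)
    (hh : h ≫ (P ↘ Spec (CommRingCat.of k)) = C ↘ Spec (CommRingCat.of k))
    (hη : h (genericPoint C) = genericPoint P) {N : P.Modules} (hN : PicF.IsInvertible N)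
    (hle : Module.finrank k (Coh.HH C ((Scheme.Modules.pullback h).obj N) 0) ≤ Module.finrank k (Coh.HH P N 0))
    (s : Γ((Scheme.Modules.pullback h).obj N, ⊤)) : ∃ w : Γ(N, ⊤), H11Ample.pullTop h w = s := by
  haveI := isNoetherian_of_proper (k := k) (X := C)
  haveI := isNoetherian_of_proper (k := k) (X := P)
  let p := C ↘ Spec (CommRingCat.of k)
  let q := P ↘ Spec (CommRingCat.of k)
  let L := (Scheme.Modules.pullback h).obj N
  have hL : PicF.IsInvertible L := H11Ample.isInvertible_pullback h hN
  haveI := finite_HH (k := k) L hL 0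
  haveI := finite_HH (k := k) N hN 0
  let T : Coh.HH P N 0 →ₗ[k] Coh.HH C L 0 :=
    { toFun := fun w => (sec L).symm (H11Ample.pullTop h (sec N w))
      map_add' := fun a b => by
        rw [← map_add]; congr 1; rw [map_add]
        exact map_add (((Scheme.Modules.pullbackPushforwardAdjunction h).unit.app N).app ⊤).hom _ _
      map_smul' := fun c a => by
        apply (sec L).injective
        rw [RingHom.id_apply, AddEquiv.apply_symm_apply, sec_smul, sec_smul, AddEquiv.apply_symm_apply]
        refine (((Scheme.Modules.pullbackPushforwardAdjunction h).unit.app N).app_smul _ _).trans ?_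
        refine congrArg (fun t : Γ(C, ⊤) => t • H11Ample.pullTop h (sec N a)) ?_
        show h.app ⊤ (ProjUP.toGlobal q c) = ProjUP.toGlobal p c
        rw [show p = h ≫ q from hh.symm, ProjUP.toGlobal, ProjUP.toGlobal, Scheme.Hom.comp_appTop]
        rfl }
  have hTi : Function.Injective T := (injective_iff_map_eq_zero T).2 fun w hw => by
    by_contra hne
    have hne' : sec N w ≠ 0 := fun h0 => hne ((sec N).injective (h0.trans (map_zero _).symm))
    have h1 : genericPoint C ∈ H11Ample.gen L (H11Ample.pullTop h (sec N w)) := by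
      rw [H11P1n.gen_pullTop h hN]
      show h (genericPoint C) ∈ H11Ample.gen N (sec N w)
      rw [hη]
      exact H29RR.genericPoint_mem_gen hN hne'
    have h2 : H11Ample.pullTop h (sec N w) = 0 := by
      have := congrArg (sec L) hw
      rwa [map_zero, show T w = (sec L).symm (H11Ample.pullTop h (sec N w)) from rfl, AddEquiv.apply_symm_apply] at this
    rw [h2, H29CurveDual.mem_gen_iff_notMem hL, map_zero] at h1
    exact h1 (Submodule.zero_mem _)
  obtain ⟨w, hw⟩ := (LinearMap.injective_iff_surjective_of_finrank_eq_finrank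
    (le_antisymm (LinearMap.finrank_le_finrank_of_injective hTi) hle)).1 hTi ((sec L).symm s)
  exact ⟨sec N w, (sec L).symm.injective hw⟩

open Groth.Agent.H29RR in
/-- Pulling back sections along a dominant morphism is injective. -/
theorem finrank_h0_le_pullback [IsIntegral C] [IsIntegral P] (h : C ⟶ P)
    (hh : h ≫ (P ↘ Spec (CommRingCat.of k)) = C ↘ Spec (CommRingCat.of k))
    (hη : h (genericPoint C) = genericPoint P) {N : P.Modules} (hN : PicF.IsInvertible N)
    : Module.finrank k (Coh.HH P N 0) ≤ Module.finrank k (Coh.HH C ((Scheme.Modules.pullback h).obj N) 0) := by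
  haveI := isNoetherian_of_proper (k := k) (X := C)
  haveI := isNoetherian_of_proper (k := k) (X := P)
  let p := C ↘ Spec (CommRingCat.of k)
  let q := P ↘ Spec (CommRingCat.of k)
  let L := (Scheme.Modules.pullback h).obj N
  have hL : PicF.IsInvertible L := H11Ample.isInvertible_pullback h hN
  haveI := finite_HH (k := k) L hL 0
  haveI := finite_HH (k := k) N hN 0
  let T : Coh.HH P N 0 →ₗ[k] Coh.HH C L 0 :=
    { toFun := fun w => (sec L).symm (H11Ample.pullTop h (sec N w))
      map_add' := fun a b => by
        rw [← map_add]; congr 1; rw [map_add]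
        exact map_add (((Scheme.Modules.pullbackPushforwardAdjunction h).unit.app N).app ⊤).hom _ _
      map_smul' := fun c a => by
        apply (sec L).injective
        rw [RingHom.id_apply, AddEquiv.apply_symm_apply, sec_smul, sec_smul, AddEquiv.apply_symm_apply]
        refine (((Scheme.Modules.pullbackPushforwardAdjunction h).unit.app N).app_smul _ _).trans ?_
        refine congrArg (fun t : Γ(C, ⊤) => t • H11Ample.pullTop h (sec N a)) ?_
        show h.app ⊤ (ProjUP.toGlobal q c) = ProjUP.toGlobal p c
        rw [show p = h ≫ q from hh.symm, ProjUP.toGlobal, ProjUP.toGlobal, Scheme.Hom.comp_appTop]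
        rfl }
  have hTi : Function.Injective T := (injective_iff_map_eq_zero T).2 fun w hw => by
    by_contra hne
    have hne' : sec N w ≠ 0 := fun h0 => hne ((sec N).injective (h0.trans (map_zero _).symm))
    have h1 : genericPoint C ∈ H11Ample.gen L (H11Ample.pullTop h (sec N w)) := by
      rw [H11P1n.gen_pullTop h hN]
      show h (genericPoint C) ∈ H11Ample.gen N (sec N w)
      rw [hη]
      exact H29RR.genericPoint_mem_gen hN hne'
    have h2 : H11Ample.pullTop h (sec N w) = 0 := by
      have := congrArg (sec L) hw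
      rwa [map_zero, show T w = (sec L).symm (H11Ample.pullTop h (sec N w)) from rfl, AddEquiv.apply_symm_apply] at this
    rw [h2, H29CurveDual.mem_gen_iff_notMem hL, map_zero] at h1
    exact h1 (Submodule.zero_mem _)
  exact LinearMap.finrank_le_finrank_of_injective hTi

end Groth.Agent.H29DoubleCover
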