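import Groth.Agent.H29DoubleCover.Hyperelliptic
import Groth.Agent.H29CurveDual.EmbeddingDeg
import Groth.Agent.H29CurveDual.Canonical

/-!
# In genus one there is a separable double cover of the line identifying two given points
-/

set_option autoImplicit false
set_option linter.style.haveILetI false

universe u

open CategoryTheory CategoryTheory.Limits AlgebraicGeometry TopologicalSpace
open Groth.Agent.H29RR

namespace Groth.Agent.H29DoubleCover

attribute [local instance 10000] H10Coh.hasSheafifyAb H10Coh.hasWeakSheafifyAb H10Coh.hasExtAb H10Coh.enoughInjAb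
attribute [local instance] Curv2.resAlgebra

variable {k : Type u} [Field k]

/-- The complement of the chart `T₀ ≠ 0` of the line is one point. -/
theorem eq_of_notMem_chart_zero {p q : ↥(Proj (CohB1.polyGrading 1 k))}
    (hp : p ∉ Proj.basicOpen (CohB1.polyGrading 1 k) (MvPolynomial.X 0))
    (hq : q ∉ Proj.basicOpen (CohB1.polyGrading 1 k) (MvPolynomial.X 0)) : p = q := by
  classical
  suffices key : ∀ a b : ↥(Proj (CohB1.polyGrading 1 k)), a ∉ Proj.basicOpen (CohB1.polyGrading 1 k) (MvPolynomial.X 0) →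
      b ∉ Proj.basicOpen (CohB1.polyGrading 1 k) (MvPolynomial.X 0) →
      a.asHomogeneousIdeal ≤ b.asHomogeneousIdeal from
    ProjectiveSpectrum.ext (le_antisymm (key p q hp hq) (key q p hq hp))
  intro a b ha hb
  rw [Proj.mem_basicOpen, not_not] at ha hb
  have h1 : MvPolynomial.X 1 ∉ a.asHomogeneousIdeal := by
    obtain ⟨i, hi'⟩ := H11Ample.exists_mem_basicOpen_X a
    have hi : MvPolynomial.X i ∉ a.asHomogeneousIdeal :=
      (Proj.mem_basicOpen (CohB1.polyGrading 1 k) (MvPolynomial.X i) a).1 hi'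
    fin_cases i
    · exact absurd ha hi
    · exact hi
  intro f hf
  rw [← DirectSum.sum_support_decompose (CohB1.polyGrading 1 k) f]
  refine sum_mem fun d _ => ?_
  have hfd := a.asHomogeneousIdeal.isHomogeneous d hf
  set g : MvPolynomial (Fin (1 + 1)) k := (DirectSum.decompose (CohB1.polyGrading 1 k) f d : MvPolynomial (Fin (1 + 1)) k)
  have hg : g.IsHomogeneous d := (DirectSum.decompose (CohB1.polyGrading 1 k) f d).2
  let c := g.coeff (Finsupp.single 1 d)
  have hrest : g - MvPolynomial.monomial (Finsupp.single 1 d) c ∈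
      Ideal.span (MvPolynomial.X '' ({0} : Set (Fin (1 + 1)))) := by
    rw [MvPolynomial.mem_ideal_span_X_image]
    intro m hm
    refine ⟨0, rfl, fun h0 => ?_⟩
    rw [MvPolynomial.mem_support_iff, MvPolynomial.coeff_sub, MvPolynomial.coeff_monomial] at hm
    by_cases hm1 : Finsupp.single 1 d = m
    · subst hm1; simp [c] at hm
    · rw [if_neg hm1, sub_zero] at hm
      refine hm1 (Finsupp.ext fun i => ?_)
      have hd' := hg hm
      have hsum : m 0 + m 1 = d := by
        rw [← hd', Finsupp.weight_apply, Finsupp.sum_fintype _ _ (fun _ => by simp), Fin.sum_univ_two]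
        simp
      fin_cases i
      · simpa using h0.symm
      · simp; omega
  have hX : Ideal.span (MvPolynomial.X '' ({0} : Set (Fin (1 + 1)))) ≤ a.asHomogeneousIdeal.toIdeal ⊓ b.asHomogeneousIdeal.toIdeal := by
    rw [Ideal.span_le, Set.image_singleton, Set.singleton_subset_iff]
    exact ⟨ha, hb⟩
  have hmon : MvPolynomial.monomial (Finsupp.single 1 d) c ∈ a.asHomogeneousIdeal.toIdeal := by
    have := Ideal.sub_mem _ hfd (hX hrest).1
    simpa using this
  have hc : c = 0 := by
    by_contra hc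
    rw [← MvPolynomial.C_mul_X_pow_eq_monomial] at hmon
    have hu : IsUnit (MvPolynomial.C c : MvPolynomial (Fin (1 + 1)) k) := (isUnit_iff_ne_zero.mpr hc).map MvPolynomial.C
    exact h1 (a.isPrime.mem_of_pow_mem d ((Ideal.unit_mul_mem_iff_mem _ hu).mp hmon))
  have := (hX hrest).2
  rwa [hc, MvPolynomial.monomial_zero, sub_zero] at this

variable {X : Scheme.{u}} [X.Over (Spec (CommRingCat.of k))] [IsAlgClosed k] [IsIntegral X]
  [IsProper (X ↘ Spec (CommRingCat.of k))] [Smooth (X ↘ Spec (CommRingCat.of k))]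

/-- A module of degree two with a nonzero section vanishing at two given distinct points. -/
theorem exists_section_through (hdim : topologicalKrullDim X = 1)
    {P Q : X} (hP : IsClosed ({P} : Set X)) (hQ : IsClosed ({Q} : Set X)) :
    ∃ (L : X.Modules) (v : Γ(L, ⊤)), PicF.IsInvertible L ∧ Curv2.deg k X L 1 = 2 ∧ v ≠ 0 ∧
      P ∉ H11Ample.gen L v ∧ Q ∉ H11Ample.gen L v ∧ ∀ y, y ≠ P → y ≠ Q → y ∈ H11Ample.gen L v := by
  haveI := isNoetherian_of_proper (k := k) (X := X)
  have hIP := H29CurveDual.isInvertible_pt (k := k) hdim hP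
  have hIQ := H29CurveDual.isInvertible_pt (k := k) hdim hQ
  obtain ⟨L, hL, ⟨e⟩⟩ := exists_inverse_comm (H11Ample.isInvertible_tensor hIP hIQ)
  let M := CohB1.tensorMod (ClSub.idealMod (ptIdeal Q)) L
  have hM : PicF.IsInvertible M := H11Ample.isInvertible_tensor hIQ hL
  let i : CohB1.tensorMod (ClSub.idealMod (ptIdeal P)) M ≅ Coh.structureModule X :=
    (H10Coh.Tw.assoc _ _ _).symm ≪≫ e
  have hd : Curv2.deg k X L 1 = 2 := by
    have h := deg_congr (k := k) i
    rw [deg_structureModule, H29CurveDual.deg_ptIdeal_tensor hdim hP hM,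
      H29CurveDual.deg_ptIdeal_tensor hdim hQ hL] at h
    omega
  let u : Γ(CohB1.tensorMod (ClSub.idealMod (ptIdeal P)) M, ⊤) := i.inv.app ⊤ (H11Ample.one ⊤)
  have hu : ∀ y, y ∈ H11Ample.gen _ u := fun y => by
    rw [H11Ample.gen_iso]
    refine H11Ample.mem_gen_of_isGen (W := ⊤) ?_ (show y ∈ (⊤ : X.Opens) from trivial)
    have h0 : (homOfLE (le_top : (⊤ : X.Opens) ≤ ⊤)).op = 𝟙 _ := Subsingleton.elim _ _
    rw [h0, CategoryTheory.Functor.map_id]
    exact H11Ample.isGen_one (X := X) ⊤
  let v₁ : Γ(M, ⊤) := (ptIncl P M).app ⊤ u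
  obtain ⟨hoffP, hatP, -⟩ := H29CurveDual.ptIncl_stalks (k := k) hP (finrank_residue_eq_one (k := k) hP) hM hIP
  obtain ⟨hoffQ, hatQ, -⟩ := H29CurveDual.ptIncl_stalks (k := k) hQ (finrank_residue_eq_one (k := k) hQ) hL hIQ
  have hoff : ∀ y, y ≠ P → y ≠ Q → y ∈ H11Ample.gen L ((ptIncl Q L).app ⊤ v₁) := fun y hyP hyQ => by
    rw [H29CurveDual.mem_gen_iff_notMem hL, ← germ_app,
      H29CurveDual.mem_smul_top_iff _ _ (hoffQ _ hyQ), ← germ_app,
      H29CurveDual.mem_smul_top_iff _ _ (hoffP _ hyP),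
      ← H29CurveDual.mem_gen_iff_notMem (H11Ample.isInvertible_tensor hIP hM)]
    exact hu _
  refine ⟨L, (ptIncl Q L).app ⊤ v₁, hL, hd, ?_, ?_, ?_, hoff⟩
  · intro h0
    have hη : ∀ {y : X}, IsClosed ({y} : Set X) → genericPoint X ≠ y := fun {y} hy h => by
      have := H29CurveDual.not_isField_stalk_of_closed (k := k) hdim hy
      rw [← h] at this
      exact this (Field.toIsField X.functionField)
    have hg := hoff _ (hη hP) (hη hQ)
    rw [h0, H29CurveDual.mem_gen_iff_notMem hL, map_zero] at hg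
    exact hg (Submodule.zero_mem _)
  · rw [H29CurveDual.mem_gen_iff_notMem hL, not_not, ← germ_app]
    by_cases hPQ : P = Q
    · subst hPQ
      rw [← hatQ]
      exact ⟨_, rfl⟩
    · rw [H29CurveDual.mem_smul_top_iff _ _ (hoffQ _ hPQ), ← hatP]
      exact ⟨_, germ_app _ _ _⟩
  · rw [H29CurveDual.mem_gen_iff_notMem hL, not_not, ← hatQ]
    exact ⟨_, germ_app _ _ _⟩

/-- In genus one some separable double cover of the line identifies two given points. -/
theorem exists_double_cover_through (hdim : topologicalKrullDim X = 1) (hg : Curv2.genus k X = 1)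
    {P Q : X} (hP : IsClosed ({P} : Set X)) (hQ : IsClosed ({Q} : Set X)) :
    ∃ f : X ⟶ CohB1.ProjSpace 1 k, f ≫ CohB1.ProjSpace.toSpec 1 k = X ↘ Spec (CommRingCat.of k) ∧
      IsFinite f ∧ Flat f ∧ f (genericPoint X) = genericPoint (CohB1.ProjSpace 1 k) ∧
      f.residueDegree (genericPoint X) = 2 ∧
      (letI := (f.residueFieldMap (genericPoint X)).hom.toAlgebra
      Algebra.IsSeparable ((CohB1.ProjSpace 1 k).residueField (f (genericPoint X))) (X.residueField (genericPoint X))) ∧
      f P = f Q ∧ ∀ y, f y = f P → y = P ∨ y = Q := by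
  haveI := isNoetherian_of_proper (k := k) (X := X)
  let p := X ↘ Spec (CommRingCat.of k)
  have h00 := H29RR.finrank_h0_structure k X
  obtain ⟨L, v₀, hL, hd, hv0, hP0, hQ0, hoff⟩ := exists_section_through (k := k) hdim hP hQ
  haveI : Subsingleton (Coh.HH X L 1) := H29CurveDual.subsingleton_h1_of_deg (k := k) hdim hL (by
    rw [H29CurveDual.deg_omega_of_h0 (k := k) hdim h00, hg, hd]; norm_num)
  have hrr := riemann_roch (k := k) hdim.le L
  rw [Module.finrank_zero_of_subsingleton (M := Coh.HH X L 1), h00, hd, hg] at hrr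
  have h2 : Module.finrank k (Coh.HH X L 0) = 2 := by omega
  haveI := finite_HH (k := k) L hL 0
  let x₀ := (sec L).symm v₀
  have hx₀ : x₀ ≠ 0 := fun h => hv0 ((sec L).symm.injective (h.trans (map_zero (sec L).symm).symm))
  obtain ⟨x₁, hli⟩ := exists_linearIndependent_pair_of_one_lt_finrank (R := k) (by omega) hx₀
  let b : Module.Basis (Fin 2) k (Coh.HH X L 0) :=
    basisOfLinearIndependentOfCardEqFinrank hli (by rw [Fintype.card_fin, h2])
  have hgg := isGloballyGenerated_of_pencil (k := k) hdim (regular_of_smooth (k := k)) h00 hg.ge hL hd h2.ge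
  let v : Fin (1 + 1) → Γ(L, ⊤) := fun i => sec L (b i)
  have hb0 : v 0 = v₀ := by
    show sec L (b 0) = v₀
    rw [coe_basisOfLinearIndependentOfCardEqFinrank]
    exact (sec L).apply_symm_apply v₀
  have hgen : ProjUP.GeneratedBy L v := fun x => by
    rw [eq_top_iff, ← spansAt_of_globallyGenerated hgg x, Submodule.span_le]
    rintro _ ⟨g, rfl⟩
    have hg' : g = ∑ i, H10Coh.globA (A := k) (X := X) (b.repr ((sec L).symm g) i) • v i := by
      conv_lhs => rw [← (sec L).apply_symm_apply g, ← b.sum_repr ((sec L).symm g), map_sum]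
      exact Finset.sum_congr rfl fun i _ => sec_smul _ _ _
    show L.presheaf.germ ⊤ x trivial g ∈ _
    rw [hg', map_sum]
    refine Submodule.sum_mem _ fun i _ => ?_
    rw [H17.AssPts.germ_smul']
    exact Submodule.smul_mem _ _ (Submodule.subset_span ⟨i, rfl⟩)
  have hcov : ∀ x, ∃ i, x ∈ H11Ample.gen L (v i) := fun x => H11QMap.exists_mem_gen_of_generatedBy hL v hgen x
  obtain ⟨f, hf, ⟨τ⟩, hpre, -⟩ := H11P1n.exists_toPn_ratio (n := 1) p hL v hcov
  have hfPQ : f P = f Q := by
    refine eq_of_notMem_chart_zero ?_ ?_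
    · intro h; exact hP0 (hb0 ▸ ((hpre 0).le (show P ∈ f ⁻¹ᵁ _ from h)))
    · intro h; exact hQ0 (hb0 ▸ ((hpre 0).le (show Q ∈ f ⁻¹ᵁ _ from h)))
  obtain ⟨-, hPn, hPd⟩ := H28Curve.projLine_facts k
  haveI : IsProper (CohB1.ProjSpace.toSpec 1 k) := H27Weil.isProper_toSpec 1 k
  haveI : IsProper f := by
    haveI : IsProper (f ≫ CohB1.ProjSpace.toSpec 1 k) := by rw [hf]; infer_instance
    exact IsProper.of_comp f (CohB1.ProjSpace.toSpec 1 k)
  have hnc : ∃ a c : X, f a ≠ f c := by
    obtain ⟨y, hy⟩ : ∃ y, y ∈ H11Ample.gen L (v 0) := by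
      refine ⟨genericPoint X, genericPoint_mem_gen hL ?_⟩
      rw [hb0]; exact hv0
    refine ⟨y, P, fun h => hP0 ?_⟩
    rw [← hb0, ← hpre 0] at *
    show f P ∈ Proj.basicOpen (CohB1.polyGrading 1 k) (MvPolynomial.X 0)
    rw [← h]; exact hy
  have hη := apply_genericPoint hPd.le f hnc
  haveI := isFinite_of_dominant hdim.le f hnc
  haveI := geometricallyConnected_of_h0 (k := k) (X := X) h00
  letI := H29RR.PnPic.overSpec 1 k
  haveI : IsProper (CohB1.ProjSpace 1 k ↘ Spec (CommRingCat.of k)) := ‹IsProper (CohB1.ProjSpace.toSpec 1 k)›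
  haveI := isNoetherian_of_proper (k := k) (X := CohB1.ProjSpace 1 k)
  have hr : f.residueDegree (genericPoint X) = 2 := by
    have h := S7640.result k X (CohB1.ProjSpace 1 k) hdim hPd f hf hη 1 _
      (rank_one_of_isInvertible ((H10Coh.Stab.isTwistFamily_projSpace 1 k).inv 1))
    rw [deg_congr (k := k) τ, hd, deg_twist_one, mul_one] at h
    exact_mod_cast h.symm
  have hfib : ∀ y, f y = f P → y = P ∨ y = Q := fun y hy => by
    by_contra hc
    push Not at hc
    refine hP0 ?_
    have h1 : y ∈ f ⁻¹ᵁ Proj.basicOpen (CohB1.polyGrading 1 k) (MvPolynomial.X 0) :=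
      (hpre 0).ge (hb0.symm ▸ hoff y hc.1 hc.2)
    have h2 : f y ∈ Proj.basicOpen (CohB1.polyGrading 1 k) (MvPolynomial.X 0) := h1
    rw [hy] at h2
    exact hb0 ▸ ((hpre 0).le h2)
  refine ⟨f, hf, inferInstance, H29Curve.flat_of_dominant_normal f hη (fun y => (hPn y).2) hPd.le, hη, hr, ?_, hfPQ, hfib⟩
  by_contra hs
  have := genus_eq_zero_of_inseparable (k := k) hdim f hf hη hr hs
  omega

end Groth.Agent.H29DoubleCover
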