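import Groth.Agent.H29DoubleCover.Equation.Main
import Groth.Agent.H29DoubleCover.Connected
import Groth.Agent.H29RR.Pencil

/-!
# Sections of the powers of the pencil of a double cover of the line
-/

set_option autoImplicit false
set_option linter.style.haveILetI false

universe u

open CategoryTheory CategoryTheory.Limits AlgebraicGeometry TopologicalSpace Opposite
open Groth.Agent.H11Ample Groth.Agent.H11Tilde Groth.Agent.H29RR

namespace Groth.Agent.H29DoubleCover

attribute [local instance] Curv2.stalkAlgebra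

variable {k : Type u} [Field k] {X : Scheme.{u}} (f : X ⟶ CohB1.ProjSpace 1 k)

/-- The pullback of `O(1)`. -/
noncomputable abbrev pencilMod : X.Modules := (Scheme.Modules.pullback f).obj (Twist.twistProjSpace 1 k 1)

/-- The two sections of the pencil. -/
noncomputable def coordSec (i : Fin (1 + 1)) : Γ(pencilMod f, ⊤) := pullTop f (ProjUP.coord 1 k i)

theorem isInvertible_pencilMod : PicF.IsInvertible (pencilMod f) :=
  isInvertible_pullback f ((H10Coh.Stab.isTwistFamily_projSpace 1 k).inv 1)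

theorem coordSec_eq (i j : Fin (1 + 1)) :
    (pencilMod f).presheaf.map (homOfLE (le_top : f ⁻¹ᵁ LefPen.chart 1 k i ≤ ⊤)).op (coordSec f j) =
      f.app (LefPen.chart 1 k i) (coordFun k i j) •
        (pencilMod f).presheaf.map (homOfLE (le_top : f ⁻¹ᵁ LefPen.chart 1 k i ≤ ⊤)).op (coordSec f i) := by
  have h : (Twist.twistProjSpace 1 k 1).presheaf.map (homOfLE (le_top : LefPen.chart 1 k i ≤ ⊤)).op
      (ProjUP.coord 1 k j) = coordFun k i j •
        (Twist.twistProjSpace 1 k 1).presheaf.map (homOfLE (le_top : LefPen.chart 1 k i ≤ ⊤)).op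
          (ProjUP.coord 1 k i) :=
    globalSec_eq_ratio_smul (CohB1.polyGrading 1 k) (LefPen.X_mem 1 k i) (LefPen.X_mem 1 k j)
  rw [coordSec, coordSec, pullTop_res, pullTop_res, h, OmegaSh.pullSect_smul]

theorem isGen_coordSec (i : Fin (1 + 1)) :
    IsGen (pencilMod f) ((pencilMod f).presheaf.map
      (homOfLE (le_top : f ⁻¹ᵁ LefPen.chart 1 k i ≤ ⊤)).op (coordSec f i)) := by
  have h := isGen_gen (L := pencilMod f) (coordSec f i)
  have hg : gen (pencilMod f) (coordSec f i) = f ⁻¹ᵁ LefPen.chart 1 k i :=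
    (H11P1n.gen_pullTop f ((H10Coh.Stab.isTwistFamily_projSpace 1 k).inv 1) _).trans
      (congrArg (f ⁻¹ᵁ ·) (gen_coord i))
  have h' := h.res hg.ge
  rwa [H10Coh.mres_mres] at h'

/-- The monomial `s₀ ^ (r - i) * s₁ ^ i`. -/
noncomputable def mon : ∀ r : ℕ, ℕ → Γ(CohB1.tensorPow (pencilMod f) r, ⊤)
  | 0, _ => (1 : Γ(X, ⊤))
  | r + 1, i => if i ≤ r then tm (mon r i) (coordSec f 0) else tm (mon r r) (coordSec f 1)

theorem mon_res_zero : ∀ r i : ℕ, i ≤ r →
    (CohB1.tensorPow (pencilMod f) r).presheaf.map (homOfLE (le_top : f ⁻¹ᵁ LefPen.chart 1 k 0 ≤ ⊤)).op (mon f r i) =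
      f.app (LefPen.chart 1 k 0) (coordFun k 0 1) ^ i •
        spow ((pencilMod f).presheaf.map (homOfLE (le_top : f ⁻¹ᵁ LefPen.chart 1 k 0 ≤ ⊤)).op (coordSec f 0)) r := by
  intro r
  induction r with
  | zero =>
    intro i hi
    rw [Nat.le_zero.1 hi, pow_zero, one_smul]
    exact map_one (X.presheaf.map (homOfLE _).op).hom
  | succ r ih =>
    intro i hi
    by_cases h : i ≤ r
    · rw [mon, if_pos h]
      show (CohB1.tensorMod _ _).presheaf.map _ (tm (mon f r i) (coordSec f 0)) = _
      rw [tm_res, ih i h, tm_smul_left]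
      rfl
    · obtain rfl : i = r + 1 := by omega
      rw [mon, if_neg h]
      show (CohB1.tensorMod _ _).presheaf.map _ (tm (mon f r r) (coordSec f 1)) = _
      rw [tm_res, ih r le_rfl, coordSec_eq f 0 1, tm_smul_left, tm_smul_right, smul_smul, ← pow_succ]
      rfl

theorem mon_res_one : ∀ r : ℕ,
    (CohB1.tensorPow (pencilMod f) r).presheaf.map (homOfLE (le_top : f ⁻¹ᵁ LefPen.chart 1 k 1 ≤ ⊤)).op (mon f r r) =
      spow ((pencilMod f).presheaf.map (homOfLE (le_top : f ⁻¹ᵁ LefPen.chart 1 k 1 ≤ ⊤)).op (coordSec f 1)) r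
  | 0 => map_one (X.presheaf.map (homOfLE _).op).hom
  | r + 1 => by
    rw [mon, if_neg (Nat.not_succ_le_self r)]
    show (CohB1.tensorMod _ _).presheaf.map _ (tm (mon f r r) (coordSec f 1)) = _
    rw [tm_res, mon_res_one r]
    rfl

variable [X.Over (Spec (CommRingCat.of k))] [IsIntegral X]
  [IsProper (X ↘ Spec (CommRingCat.of k))] [IsFinite f] [Flat f]
  (hη : f (genericPoint X) = genericPoint (CohB1.ProjSpace 1 k))

omit [IsProper (X ↘ Spec (CommRingCat.of k))] [IsFinite f] [Flat f] in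
theorem constGen_eq (c : k) : constGen (k := k) (X := X) c = algebraMap k X.functionField c := rfl

/-- The sections of a power of the pencil as rational functions. -/
theorem exists_ratSec (r : ℕ) :
    ∃ Φ : Coh.HH X (CohB1.tensorPow (pencilMod f) r) 0 →ₗ[k] X.functionField, Function.Injective Φ ∧
      (∀ v, Φ v ∈ chartSub (k := k) f hη 0 ∧ (coordK f hη 0 1)⁻¹ ^ r * Φ v ∈ chartSub (k := k) f hη 1) ∧
      ∀ i ≤ r, ∃ v, Φ v = coordK f hη 0 1 ^ i := by
  haveI := isNoetherian_of_proper (k := k) (X := X)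
  let η := genericPoint X
  let M := CohB1.tensorPow (pencilMod f) r
  have hM : PicF.IsInvertible M := isInvertible_tensorPow (isInvertible_pencilMod f) r
  let W : Fin (1 + 1) → X.Opens := fun i => f ⁻¹ᵁ LefPen.chart 1 k i
  have hW : ∀ i, η ∈ W i := mem_chartPreimage f hη
  let e : ∀ i, Γ(M, W i) := fun i =>
    spow ((pencilMod f).presheaf.map (homOfLE (le_top : W i ≤ ⊤)).op (coordSec f i)) r
  have he : ∀ i, IsGen M (e i) := fun i => isGen_spow (isGen_coordSec f i) r
  let g : ∀ i, M.presheaf.stalk η := fun i => M.presheaf.germ (W i) η (hW i) (e i)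
  have hb : Function.Bijective (fun a : X.presheaf.stalk η => a • g 0) := he 0 η (hW 0)
  have hmon : ∀ i ≤ r, M.presheaf.germ ⊤ η trivial (mon f r i) = (coordK f hη 0 1 ^ i : X.presheaf.stalk η) • g 0 := by
    intro i hi
    rw [← TopCat.Presheaf.germ_res_apply M.presheaf (homOfLE (le_top : W 0 ≤ ⊤)) η (hW 0)]
    refine (congrArg (M.presheaf.germ (W 0) η (hW 0)) (mon_res_zero f r i hi)).trans ?_
    rw [H06Mod.germ_smul, map_pow]
    rfl
  have hg1 : g 1 = (coordK f hη 0 1 ^ r : X.presheaf.stalk η) • g 0 := by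
    rw [← hmon r le_rfl, ← TopCat.Presheaf.germ_res_apply M.presheaf (homOfLE (le_top : W 1 ≤ ⊤)) η (hW 1)]
    exact (congrArg (M.presheaf.germ (W 1) η (hW 1)) (mon_res_one f r)).symm
  let φ : Coh.HH X M 0 → X.presheaf.stalk η := fun v => (Equiv.ofBijective _ hb).symm (genGerm M v)
  have hφ : ∀ v, φ v • g 0 = genGerm M v := fun v => (Equiv.ofBijective _ hb).apply_symm_apply _
  let Φ : Coh.HH X M 0 →ₗ[k] X.functionField :=
    { toFun := φ
      map_add' := fun v w => hb.1 (by
        beta_reduce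
        rw [add_smul, hφ, hφ, hφ]
        simp only [genGerm, map_add])
      map_smul' := fun c v => hb.1 (by
        beta_reduce
        rw [hφ, genGerm_smul, RingHom.id_apply, Algebra.smul_def, ← constGen_eq, ← hφ v, smul_smul]) }
  refine ⟨Φ, fun v w h => (sec M).injective ?_, fun v => ⟨?_, ?_⟩, fun i hi => ?_⟩
  · have hc := isCoh_of_isInvertible hM
    refine H29Ref.germ_generic_injective M hc.1
      (H25Par.isTorsionFree_of_locFree (H28Pinch.isFinLocFree_of_isInvertible hM)) (U := ⊤) trivial ?_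
    show genGerm M v = genGerm M w
    rw [← hφ v, ← hφ w]
    exact congrArg (fun a : X.presheaf.stalk η => a • g 0) h
  · obtain ⟨a, ha⟩ := exists_coeff (he 0) (M.presheaf.map (homOfLE (le_top : W 0 ≤ ⊤)).op (sec M v))
    refine ⟨a, hb.1 ?_⟩
    have h := congrArg (M.presheaf.germ (W 0) η (hW 0)) ha
    rw [TopCat.Presheaf.germ_res_apply, H06Mod.germ_smul] at h
    exact h.symm.trans (hφ v).symm
  · obtain ⟨a, ha⟩ := exists_coeff (he 1) (M.presheaf.map (homOfLE (le_top : W 1 ≤ ⊤)).op (sec M v))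
    refine ⟨a, ?_⟩
    have h := congrArg (M.presheaf.germ (W 1) η (hW 1)) ha
    rw [TopCat.Presheaf.germ_res_apply, H06Mod.germ_smul] at h
    have h' : φ v • g 0 = X.presheaf.germ (W 1) η (hW 1) a • g 1 := (hφ v).trans h
    rw [hg1, smul_smul] at h'
    have ht : coordK f hη 0 1 ≠ 0 := left_ne_zero_of_mul_eq_one (coordK_mul f hη)
    have hv : Φ v = (X.presheaf.germ (W 1) η (hW 1) a : X.functionField) * coordK f hη 0 1 ^ r := hb.1 h'
    rw [hv, mul_left_comm, ← mul_pow, inv_mul_cancel₀ ht, one_pow, mul_one]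
  · refine ⟨(sec M).symm (mon f r i), hb.1 ?_⟩
    refine (hφ _).trans ?_
    rw [genGerm, AddEquiv.apply_symm_apply]
    exact hmon i hi

omit [X.Over (Spec (CommRingCat.of k))] [IsIntegral X] [IsProper (X ↘ Spec (CommRingCat.of k))] in
/-- Rational functions with poles only over one point, of small order, are polynomials in the coordinate. -/
theorem Lattices.exists_poly {K : Type u} [Field K] [Algebra k K] {t y : K} {A B C : Subalgebra k K} {n : ℕ}
    (D : Lattices t y (t⁻¹ ^ n * y) A B C) {r : ℕ} (hr : r < n) {z : K} (hA : z ∈ A) (hB : t⁻¹ ^ r * z ∈ B) :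
    ∃ p : Polynomial k, p.natDegree ≤ r ∧ z = Polynomial.aeval t p := by
  have ht := D.ne_zero
  obtain ⟨p, q, rfl⟩ := (D.memA _).1 hA
  obtain ⟨p', q', h⟩ := (D.memB _).1 hB
  have hone : t ^ r * t⁻¹ ^ r = 1 := by rw [← mul_pow, mul_inv_cancel₀ ht, one_pow]
  have hsplit : (t⁻¹ : K) ^ n = t⁻¹ ^ (n - r) * t⁻¹ ^ r := by rw [← pow_add]; congr 1; omega
  have he : D.coord (p.toLaurent, q.toLaurent) = D.coord
      (LaurentPolynomial.T (r : ℤ) * LaurentPolynomial.invert p'.toLaurent,
        LaurentPolynomial.T (-((n - r : ℕ) : ℤ)) * LaurentPolynomial.invert q'.toLaurent) := by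
    rw [D.coord_apply, D.coord_apply, map_mul, map_mul, lau_T, lau_T, lau_toLaurent, lau_toLaurent,
      lau_invert_toLaurent, lau_invert_toLaurent, zpow_neg, zpow_natCast, zpow_natCast, ← inv_pow]
    linear_combination (t ^ r) * h + (t ^ r * Polynomial.aeval t⁻¹ q' * y) * hsplit
      - (Polynomial.aeval t p + Polynomial.aeval t q * y - t⁻¹ ^ (n - r) * Polynomial.aeval t⁻¹ q' * y) * hone
  obtain ⟨h1, h2⟩ := Prod.ext_iff.1 (D.coord_injective he)
  have hp : p.natDegree ≤ r := natDegree_le_of_aeval D.inj ht (q := p') (by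
    have := congrArg (lau t ht) h1
    rwa [map_mul, lau_T, lau_toLaurent, lau_invert_toLaurent, zpow_natCast] at this)
  have hq : (Polynomial.X ^ (n - r) * q).natDegree ≤ 0 := natDegree_le_of_aeval D.inj ht (q := q') (by
    have := congrArg (lau t ht) h2
    simp only [map_mul, lau_T, lau_toLaurent, lau_invert_toLaurent, zpow_neg, zpow_natCast] at this
    rw [map_mul, map_pow, Polynomial.aeval_X, this, pow_zero, one_mul, ← mul_assoc,
      mul_inv_cancel₀ (pow_ne_zero _ ht), one_mul])
  have hq0 : q = 0 := by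
    by_contra hne
    rw [Polynomial.natDegree_mul (pow_ne_zero _ Polynomial.X_ne_zero) hne, Polynomial.natDegree_X_pow] at hq
    omega
  exact ⟨p, hp, by rw [hq0, map_zero, zero_mul, add_zero]⟩

include hη in
/-- The powers of the pencil of a double cover have few sections. -/
theorem finrank_h0_pencil_pow (hf : f ≫ CohB1.ProjSpace.toSpec 1 k = X ↘ Spec (CommRingCat.of k))
    (hN : ∀ x : X, IsIntegrallyClosed (X.presheaf.stalk x))
    (hrk : f.finrank (genericPoint (CohB1.ProjSpace 1 k)) = 2) {g : ℕ} (hg : Curv2.genus k X = g) (hg1 : 1 ≤ g)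
    {r : ℕ} (hr : r ≤ g) :
    Module.finrank k (Coh.HH X (CohB1.tensorPow (pencilMod f) r) 0) = r + 1 := by
  classical
  obtain ⟨Φ, hinj, hmem, hmon⟩ := exists_ratSec f hη r
  obtain ⟨y, D, -⟩ := exists_normal_lattices f hf hη hN hrk g hg hg1
  let t := coordK f hη 0 1
  let ev : (Polynomial.degreeLT k (r + 1)) →ₗ[k] X.functionField :=
    (Polynomial.aeval t : Polynomial k →ₐ[k] X.functionField).toLinearMap ∘ₗ (Submodule.subtype _)
  have hev : Function.Injective ev := D.inj.comp Subtype.val_injective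
  have hrange : LinearMap.range Φ = LinearMap.range ev := by
    refine le_antisymm ?_ ?_
    · rintro _ ⟨v, rfl⟩
      obtain ⟨p, hp, hz⟩ := D.exists_poly (show r < g + 1 by omega) (hmem v).1 (hmem v).2
      refine ⟨⟨p, ?_⟩, hz.symm⟩
      rw [Polynomial.mem_degreeLT]
      exact lt_of_le_of_lt Polynomial.degree_le_natDegree (by exact_mod_cast Nat.lt_succ_of_le hp)
    · rintro _ ⟨p, rfl⟩
      show Polynomial.aeval t p.1 ∈ LinearMap.range Φ
      rw [Polynomial.aeval_eq_sum_range]
      refine Submodule.sum_mem _ fun i hi => Submodule.smul_mem _ _ ?_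
      have hd : p.1.natDegree ≤ r := by
        by_cases hp0 : p.1 = 0
        · rw [hp0]; simp
        · have := Polynomial.mem_degreeLT.1 p.2
          rw [Polynomial.degree_eq_natDegree hp0] at this
          exact Nat.lt_succ_iff.1 (by exact_mod_cast this)
      obtain ⟨v, hv⟩ := hmon i (by rw [Finset.mem_range] at hi; omega)
      exact ⟨v, hv⟩
  rw [← LinearMap.finrank_range_of_inj hinj, hrange, LinearMap.finrank_range_of_inj hev,
    LinearEquiv.finrank_eq (Polynomial.degreeLTEquiv k (r + 1)), Module.finrank_fin_fun]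

end Groth.Agent.H29DoubleCover
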